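import Cfsg.Agent.Lib.CubicBlock.Monomial
import Cfsg.Agent.Lib.LocalEvenB.Basic

/-!
# Reduction to the monomial case
-/

set_option autoImplicit false
set_option maxHeartbeats 1600000

namespace Cfsg.Agent.CubicBlock

open Subgroup
open scoped commutatorElement

variable {G : Type*} [Group G] [Finite G] {E : Type*} [AddCommGroup E] [Module (ZMod 3) E] [Finite E]
variable {ρ : Representation (ZMod 3) G E} {b q : G} {R : Subgroup G}

theorem five_pow : ∀ m < 5, ∀ a < 5, (2 ^ m - 2 ^ a) % 5 = 0 → a < m → m = 4 ∧ a = 0 := by decide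
theorem thirteen_pow : ∀ m < 5, ∀ a < 5, (2 ^ m - 2 ^ a) % 13 = 0 → a ≤ m → a = m := by decide
theorem gl_dvd : ∀ d : ℕ, d ≤ 4 → (∏ i : Fin d, (3 ^ d - 3 ^ (i : ℕ))) ∣ 24261120 := by
  intro d hd
  interval_cases d <;> simp [Fin.prod_univ_succ]

/-- A fixed subgroup of an automorphism of prime order. -/
theorem fixed_mod {M : Type*} [Group M] [Finite M] (p : ℕ) [Fact p.Prime] (φ : MulAut M) (h : φ ^ p = 1) :
    ∃ F : Subgroup M, (∀ x, x ∈ F ↔ φ x = x) ∧ Nat.card F ≡ Nat.card M [MOD p] := by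
  classical
  haveI := Fintype.ofFinite M
  let F : Subgroup M :=
    { carrier := {x | φ x = x}
      one_mem' := map_one φ
      mul_mem' := fun {x y} hx hy => by show φ (x * y) = x * y; rw [map_mul, hx, hy]
      inv_mem' := fun {x} hx => by show φ x⁻¹ = x⁻¹; rw [map_inv, hx] }
  refine ⟨F, fun x => Iff.rfl, ?_⟩
  obtain ⟨π, hπ⟩ : ∃ π : Equiv.Perm M, ∀ x, π x = φ x := ⟨φ.toEquiv, fun _ => rfl⟩
  have hpow : ∀ (k : ℕ) (x : M), (π ^ k) x = (φ ^ k) x := by
    intro k
    induction k with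
    | zero => intro x; rfl
    | succ k ih => intro x; rw [pow_succ', pow_succ', Equiv.Perm.mul_apply, ih, hπ]; rfl
  have hmod := Equiv.Perm.card_compl_support_modEq (p := p) (n := 1) (σ := π)
    (Equiv.ext fun x => by rw [hpow, pow_one, h]; rfl)
  have hc : π.supportᶜ.card = Nat.card F := by
    rw [Nat.card_eq_fintype_card, Fintype.card_subtype]
    congr 1
    ext x
    rw [Finset.mem_compl, Equiv.Perm.notMem_support, Finset.mem_filter, hπ]
    exact ⟨fun hx => ⟨Finset.mem_univ _, hx⟩, fun hx => hx.2⟩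
  rwa [hc, ← Nat.card_eq_fintype_card] at hmod

theorem Irred.shape (I : Irred ρ b q R) : Shape R := by
  classical
  by_contra hsh
  haveI hRn := I.normal
  haveI := Fact.mk Nat.prime_two
  have hinv_ord : ∀ r ∈ R, (orderOf r).Coprime 3 := I.cop
  let Zs : Subgroup G :=
    { carrier := {r | r ∈ R ∧ ∃ s : Bool, ∀ v, ρ r v = sgn s • v}
      one_mem' := ⟨R.one_mem, false, fun v => by rw [map_one]; simp [sgn]⟩
      mul_mem' := fun {u w} hu hw => by
        obtain ⟨hu, s, hs⟩ := hu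
        obtain ⟨hw, s', hs'⟩ := hw
        exact ⟨R.mul_mem hu hw, xor s s', fun v => by rw [← rho_comp, hs', map_smul, hs, smul_smul, mul_comm, sgn_xor]⟩
      inv_mem' := fun {u} hu => by
        obtain ⟨hu, s, hs⟩ := hu
        refine ⟨R.inv_mem hu, s, fun v => ?_⟩
        apply rho_injective ρ u
        rw [rho_comp, mul_inv_cancel, map_one, map_smul, hs, smul_smul, sgn_sq, one_smul]; rfl }
  have hZc : ∀ z ∈ Zs, ∀ g, Commute z g := by
    rintro z ⟨-, s, hs⟩ g
    apply I.setting.faith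
    ext v
    rw [← rho_comp, ← rho_comp, hs, hs, map_smul]
  have hZ2 : ∀ z ∈ Zs, z * z = 1 := by
    rintro z ⟨-, s, hs⟩
    apply I.setting.faith
    ext v
    rw [← rho_comp, hs, hs, smul_smul, sgn_sq, one_smul, map_one]; rfl
  have hZR : Zs ≤ R := fun z hz => hz.1
  have hodd1 : ∀ u : G, u * u = 1 → Odd (orderOf u) → u = 1 := by
    intro u h ho
    have h1 : orderOf u ∣ 2 := orderOf_dvd_of_pow_eq_one (by rw [pow_two, h])
    have h2 := Nat.dvd_gcd h1 dvd_rfl
    rw [(Nat.coprime_two_left.2 ho).gcd_eq_one, Nat.dvd_one, orderOf_eq_one_iff] at h2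
    exact h2
  -- abelian normal subgroups are central
  have H0 : ∀ A : Subgroup G, A.Normal → A ≤ R → (∀ u ∈ A, ∀ w ∈ A, Commute u w) → A ≤ Zs := by
    intro A hA hAR hAc
    let Ao : Subgroup G :=
      { carrier := {u | u ∈ A ∧ Odd (orderOf u)}
        one_mem' := ⟨A.one_mem, by rw [orderOf_one]; exact odd_one⟩
        mul_mem' := fun {u w} hu hw => ⟨A.mul_mem hu.1 hw.1,
          (hu.2.mul hw.2).of_dvd_nat ((hAc _ hu.1 _ hw.1).orderOf_mul_dvd_mul_orderOf)⟩
        inv_mem' := fun {u} hu => ⟨A.inv_mem hu.1, by rw [orderOf_inv]; exact hu.2⟩ }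
    have hconjord : ∀ g u : G, orderOf (g * u * g⁻¹) = orderOf u := fun g u =>
      orderOf_injective (MulAut.conj g).toMonoidHom (MulAut.conj g).injective u
    haveI hAon : Ao.Normal := ⟨fun u hu g => ⟨hA.conj_mem u hu.1 g, by rw [hconjord]; exact hu.2⟩⟩
    have hAob : ∀ u ∈ Ao, Commute u b := I.setting.centralize_odd Ao (fun u hu w hw => hAc u hu.1 w hw.1)
      (fun i u hu => by
        have h1 : (qs b q i)⁻¹ = qs b q i := inv_eq_of_mul_eq_one_right (I.setting.qs_sq i)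
        have := hAon.conj_mem u hu (qs b q i)
        rwa [h1] at this)
      (fun u hu => Nat.Coprime.mul_right (m := 2) (n := 3) (Nat.coprime_two_right.2 hu.2) (hinv_ord u (hAR hu.1)))
    have hAo : ∀ u ∈ Ao, u = 1 := by
      intro u hu
      obtain ⟨s, hs⟩ := I.central_sign (fun r hr => I.centralize Ao hAob r hr u hu) (hAob u hu)
      exact hodd1 u (hZ2 u ⟨hAR hu.1, s, hs⟩) hu.2
    have hpow2 : ∀ u ∈ A, ∃ k : ℕ, u ^ 2 ^ k = 1 := by
      intro u hu
      obtain ⟨k, m, hm, hkm⟩ := Nat.exists_eq_pow_mul_and_not_dvd (orderOf_pos u).ne' 2 (by norm_num)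
      refine ⟨k, hAo _ ⟨A.pow_mem hu _, ?_⟩⟩
      rw [orderOf_pow' u (by positivity), hkm, Nat.gcd_eq_right (dvd_mul_right _ _), Nat.mul_div_cancel_left m (by positivity)]
      exact Nat.odd_iff.2 (by omega)
    let A1 : Subgroup G :=
      { carrier := {u | u ∈ A ∧ u * u = 1}
        one_mem' := ⟨A.one_mem, mul_one 1⟩
        mul_mem' := fun {u w} hu hw => ⟨A.mul_mem hu.1 hw.1, by
          rw [show u * w * (u * w) = u * (w * u) * w by group, ← (hAc u hu.1 w hw.1).eq,
            show u * (u * w) * w = (u * u) * (w * w) by group, hu.2, hw.2, one_mul]⟩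
        inv_mem' := fun {u} hu => ⟨A.inv_mem hu.1, by rw [← mul_inv_rev, hu.2, inv_one]⟩ }
    haveI : A1.Normal := ⟨fun u hu g => ⟨hA.conj_mem u hu.1 g, by
      rw [show g * u * g⁻¹ * (g * u * g⁻¹) = g * (u * u) * g⁻¹ by group, hu.2, mul_one, mul_inv_cancel]⟩⟩
    have hA1 : ∀ u ∈ A1, Commute u b := by
      by_contra hno
      push_neg at hno
      exact hsh (I.monomial A1 (fun u hu => hAR hu.1) (fun u hu => hu.2) hno)
    have hAb : ∀ k : ℕ, ∀ u ∈ A, u ^ 2 ^ k = 1 → Commute u b := by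
      intro k
      induction k with
      | zero => intro u _ h; rw [pow_zero, pow_one] at h; rw [h]; exact Commute.one_left b
      | succ k ih =>
        intro u hu h
        have hw : Commute (u * u) b := ih _ (A.mul_mem hu hu) (by rw [← pow_two, ← pow_mul, ← pow_succ', h])
        obtain ⟨c, hc⟩ : ∃ c, c = b * u * b⁻¹ * u⁻¹ := ⟨_, rfl⟩
        have hbu : b * u * b⁻¹ ∈ A := hA.conj_mem u hu b
        have hcA : c ∈ A := hc ▸ A.mul_mem hbu (A.inv_mem hu)
        have hc2 : c * c = 1 := by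
          have hcm := (hAc _ hbu _ (A.inv_mem hu)).eq
          have hcc : c * c = (b * u * b⁻¹) * (b * u * b⁻¹) * (u⁻¹ * u⁻¹) := by
            rw [hc]
            nth_rewrite 2 [hcm]
            rw [show b * u * b⁻¹ * u⁻¹ * (u⁻¹ * (b * u * b⁻¹)) = b * u * b⁻¹ * ((u⁻¹ * u⁻¹) * (b * u * b⁻¹)) by group,
              (hAc _ (A.mul_mem (A.inv_mem hu) (A.inv_mem hu)) _ hbu).eq, ← mul_assoc]
          rw [hcc, show b * u * b⁻¹ * (b * u * b⁻¹) = b * (u * u) * b⁻¹ by group, ← hw.eq,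
            mul_inv_cancel_right, ← mul_inv_rev, mul_inv_cancel]
        have hcb := hA1 c ⟨hcA, hc2⟩
        have e1 : b * u * b⁻¹ = c * u := by rw [hc, inv_mul_cancel_right]
        have e2 : ∀ w, b * (c * w) * b⁻¹ = c * (b * w * b⁻¹) := fun w => by
          rw [← mul_assoc b c w, ← hcb.eq]; group
        have e3 : u = c * (c * (c * u)) := by
          have : b * (b * (b * u * b⁻¹) * b⁻¹) * b⁻¹ = u := by
            rw [show b * (b * (b * u * b⁻¹) * b⁻¹) * b⁻¹ = b ^ 3 * u * (b ^ 3)⁻¹ by rw [pow_succ, pow_two]; group,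
              I.setting.ord]; group
          rw [e1, e2, e1, e2, e2, e1] at this
          exact this.symm
        have hc3 : c = 1 := by
          rw [← mul_assoc c c, hc2, one_mul] at e3
          exact right_eq_mul.1 e3
        rw [hc3, one_mul] at e1
        exact (mul_inv_eq_iff_eq_mul.1 e1).symm
    have hAall : ∀ u ∈ A, Commute u b := fun u hu => (hpow2 u hu).elim fun k hk => hAb k u hu hk
    intro u hu
    exact ⟨hAR hu, I.central_sign (fun r hr => I.centralize A hAall r hr u hu) (hAall u hu)⟩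
  -- the two-core
  obtain ⟨L, hLdef⟩ : ∃ L, L = Cfsg.pCore 2 G := ⟨_, rfl⟩
  obtain ⟨hLn, hL2⟩ : L.Normal ∧ IsPGroup 2 L := hLdef ▸ Cfsg.Agent.LocalEvenB.pCore_spec 2
  haveI := hLn
  have hdec : ∀ g : G, ∃ r ∈ R, ∃ k : ℕ, g = r * b ^ k := by
    intro g
    have h := I.top (R ⊔ zpowers b) le_sup_left (mem_sup_right (mem_zpowers b))
    have hg : g ∈ ((R ⊔ zpowers b : Subgroup G) : Set G) := h ▸ mem_top g
    rw [normal_mul] at hg
    obtain ⟨r, hr, c, hc, rfl⟩ := Set.mem_mul.1 hg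
    obtain ⟨k, -, rfl⟩ : ∃ k, k < orderOf b ∧ b ^ k = c := by
      simpa [eq_comm] using (mem_zpowers_iff_mem_range_orderOf.1 hc)
    exact ⟨r, hr, k, rfl⟩
  have hLR : L ≤ R := by
    intro u hu
    obtain ⟨j, hj⟩ := hL2 ⟨u, hu⟩
    have h1 : ((u : G) : G ⧸ R) ^ 2 ^ j = 1 := by
      rw [← QuotientGroup.mk_pow, show u ^ 2 ^ j = 1 from congrArg Subtype.val hj]; rfl
    have h2 : ((u : G) : G ⧸ R) ^ 3 = 1 := by
      obtain ⟨r, hr, k, rfl⟩ := hdec u
      rw [QuotientGroup.mk_mul, (QuotientGroup.eq_one_iff r).2 hr, one_mul, ← QuotientGroup.mk_pow, ← pow_mul,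
        mul_comm, pow_mul, I.setting.ord, one_pow]; rfl
    have := pow_gcd_eq_one.2 ⟨h1, h2⟩
    rw [(Nat.Coprime.pow_left j (by norm_num : Nat.Coprime 2 3)).gcd_eq_one, pow_one] at this
    exact (QuotientGroup.eq_one_iff u).1 this
  -- a subgroup with commutators in the signs lies in the core
  have H1 : ∀ K : Subgroup G, K.Normal → K ≤ R → (∀ u ∈ K, ∀ w ∈ K, ⁅u, w⁆ ∈ Zs) → K ≤ L := by
    intro K hK hKR hKc
    have hoddc : ∀ u ∈ K, ∀ w ∈ K, Odd (orderOf w) → Commute u w := by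
      intro u hu w hw ho
      obtain ⟨c, hc⟩ : ∃ c, c = ⁅u, w⁆ := ⟨_, rfl⟩
      have hcZ : c ∈ Zs := hc ▸ hKc u hu w hw
      have e : u * w * u⁻¹ = c * w := by rw [hc, commutatorElement_def, inv_mul_cancel_right]
      have h1 : (u * w * u⁻¹) ^ orderOf w = 1 := by rw [conj_pow, pow_orderOf_eq_one, mul_one, mul_inv_cancel]
      rw [e, (hZc c hcZ w).mul_pow, pow_orderOf_eq_one, mul_one] at h1
      obtain ⟨m, hm⟩ := ho
      rw [hm, pow_add, pow_mul, pow_two, hZ2 c hcZ, one_pow, one_mul, pow_one] at h1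
      rw [h1, one_mul] at e
      exact mul_inv_eq_iff_eq_mul.1 e
    let Ko : Subgroup G :=
      { carrier := {u | u ∈ K ∧ Odd (orderOf u)}
        one_mem' := ⟨K.one_mem, by rw [orderOf_one]; exact odd_one⟩
        mul_mem' := fun {u w} hu hw => ⟨K.mul_mem hu.1 hw.1,
          (hu.2.mul hw.2).of_dvd_nat ((hoddc u hu.1 w hw.1 hw.2).orderOf_mul_dvd_mul_orderOf)⟩
        inv_mem' := fun {u} hu => ⟨K.inv_mem hu.1, by rw [orderOf_inv]; exact hu.2⟩ }
    have hKo : Ko ≤ Zs := H0 Ko ⟨fun u hu g => ⟨hK.conj_mem u hu.1 g, by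
      rw [show orderOf (g * u * g⁻¹) = orderOf u from orderOf_injective (MulAut.conj g).toMonoidHom (MulAut.conj g).injective u]
      exact hu.2⟩⟩ (fun u hu => hKR hu.1) (fun u hu w hw => hoddc u hu.1 w hw.1 hw.2)
    have hK2 : IsPGroup 2 K := by
      intro u
      obtain ⟨k, m, hm, hkm⟩ := Nat.exists_eq_pow_mul_and_not_dvd (orderOf_pos (u : G)).ne' 2 (by norm_num)
      refine ⟨k, Subtype.ext ?_⟩
      have hodd : Odd (orderOf ((u : G) ^ 2 ^ k)) := by
        rw [orderOf_pow' _ (by positivity), hkm, Nat.gcd_eq_right (dvd_mul_right _ _), Nat.mul_div_cancel_left m (by positivity)]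
        exact Nat.odd_iff.2 (by omega)
      exact hodd1 _ (hZ2 _ (hKo ⟨K.pow_mem u.2 _, hodd⟩)) hodd
    exact hLdef ▸ Cfsg.Agent.LocalEvenB.le_pCore hK hK2
  -- the last derived term outside the core
  have H2 : ∀ K : Subgroup G, K.Normal → K ≤ R → ¬ K ≤ L →
      ∃ K' : Subgroup G, K'.Normal ∧ K' ≤ K ∧ ¬ K' ≤ L ∧ ⁅K', K'⁆ ≤ L := by
    intro K hK hKR hKL
    let f : ℕ → Subgroup G := fun n => Nat.rec (motive := fun _ => Subgroup G) K (fun _ D => ⁅D, D⁆) n
    have hf : ∀ n, (f n).Normal ∧ f n ≤ K ∧ f n ≤ (derivedSeries R n).map R.subtype := by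
      intro n
      induction n with
      | zero => exact ⟨hK, le_rfl, by rw [derivedSeries_zero, ← MonoidHom.range_eq_map, range_subtype]; exact hKR⟩
      | succ n ih =>
        haveI := ih.1
        refine ⟨@Subgroup.commutator_normal G _ (f n) (f n) ih.1 ih.1, le_trans (@Subgroup.commutator_le_left G _ (f n) (f n) ih.1) ih.2.1, ?_⟩
        show ⁅f n, f n⁆ ≤ _
        rw [derivedSeries_succ, map_commutator]
        exact commutator_mono ih.2.2 ih.2.2
    obtain ⟨n, hn⟩ := I.solvable.solvable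
    have hex : ∃ n, f n ≤ L := ⟨n, (hf n).2.2.trans (by rw [hn, Subgroup.map_bot]; exact bot_le)⟩
    obtain ⟨k, hk⟩ : ∃ k, Nat.find hex = k + 1 := ⟨Nat.find hex - 1, by
      rcases Nat.eq_zero_or_pos (Nat.find hex) with h | h
      · exfalso; have := Nat.find_spec hex; rw [h] at this; exact hKL this
      · omega⟩
    exact ⟨f k, (hf k).1, (hf k).2.1, Nat.find_min hex (by omega), by have := Nat.find_spec hex; rwa [hk] at this⟩
  have hqnot : q ∉ Zs := fun h => I.setting.ne (by rw [← (hZc q h b).eq, mul_inv_cancel_right])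
  -- the core is not abelian
  have hLab : ¬ ∀ u ∈ L, ∀ w ∈ L, Commute u w := by
    intro hab
    have hLZ := H0 L hLn hLR hab
    by_cases hRL : R ≤ L
    · exact hqnot (hLZ (hRL I.q_mem))
    · obtain ⟨K, hKn, hKR, hKL, hKc⟩ := H2 R hRn le_rfl hRL
      exact hKL (H1 K hKn hKR fun u hu w hw => hLZ (hKc (commutator_mem_commutator hu hw)))
  -- centre of the core
  have hZL : ∀ u ∈ L, (∀ w ∈ L, Commute u w) → u ∈ Zs := by
    intro u hu hc
    have := H0 (L ⊓ centralizer (L : Set G)) inferInstance (inf_le_left.trans hLR)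
      (fun a ha c hc => (hc.2 a ha.1))
    exact this ⟨hu, fun w hw => (hc w hw).eq.symm⟩
  have hconjc : ∀ x l m : G, ⁅x, l⁆ ∈ Zs → ⁅x, m⁆ ∈ Zs → Commute x ⁅l, m⁆ := by
    intro x l m hl hm
    have e : ∀ w, x * w * x⁻¹ = ⁅x, w⁆ * w := fun w => by rw [commutatorElement_def, inv_mul_cancel_right]
    have h1 : x * ⁅l, m⁆ * x⁻¹ = ⁅l, m⁆ := by
      calc x * ⁅l, m⁆ * x⁻¹ = ⁅x * l * x⁻¹, x * m * x⁻¹⁆ := by simp only [commutatorElement_def]; group
        _ = ⁅l, m⁆ := by
          rw [e l, e m]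
          obtain ⟨z, hz, hz'⟩ : ∃ z ∈ Zs, z = ⁅x, l⁆ := ⟨_, hl, rfl⟩
          obtain ⟨z', hzz, hzz'⟩ : ∃ z ∈ Zs, z = ⁅x, m⁆ := ⟨_, hm, rfl⟩
          rw [← hz', ← hzz', commutatorElement_def, commutatorElement_def, mul_inv_rev, mul_inv_rev,
            show z * l * (z' * m) * (l⁻¹ * z⁻¹) * (m⁻¹ * z'⁻¹) = z * (l * z') * m * l⁻¹ * (z⁻¹ * m⁻¹) * z'⁻¹ by group,
            ← (hZc z' hzz l).eq, (hZc z⁻¹ (Zs.inv_mem hz) m⁻¹).eq,
            show z * (z' * l) * m * l⁻¹ * (m⁻¹ * z⁻¹) * z'⁻¹ = (z * z') * (l * m * l⁻¹ * m⁻¹) * (z' * z)⁻¹ by group,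
            (hZc z hz z').eq, (hZc (z' * z) (Zs.mul_mem hzz hz) (l * m * l⁻¹ * m⁻¹)).eq, mul_inv_cancel_right]
    exact mul_inv_eq_iff_eq_mul.1 h1
  -- commutators of the core
  have hLL : ∀ u ∈ L, ∀ w ∈ L, ⁅u, w⁆ ∈ Zs := by
    by_contra hno
    push_neg at hno
    obtain ⟨u, hu, w, hw, huw⟩ := hno
    haveI : Group.IsNilpotent L := hL2.isNilpotent
    let N : Subgroup (L ⧸ center L) := (_root_.commutator L).map (QuotientGroup.mk' (center L))
    haveI : N.Normal := Subgroup.Normal.map inferInstance _ (QuotientGroup.mk'_surjective _)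
    have hN : N ≠ ⊥ := by
      intro h
      have hmem : ((⁅(⟨u, hu⟩ : L), ⟨w, hw⟩⁆ : L) : L ⧸ center L) ∈ N :=
        ⟨_, commutator_mem_commutator (mem_top _) (mem_top _), rfl⟩
      rw [h, mem_bot, QuotientGroup.eq_one_iff, mem_center_iff] at hmem
      exact huw (hZL _ (L.mul_mem (L.mul_mem (L.mul_mem hu hw) (L.inv_mem hu)) (L.inv_mem hw)) fun m hm =>
        (congrArg Subtype.val (hmem ⟨m, hm⟩) : _).symm)
    obtain ⟨z, hzN, hzc, hz1⟩ := Cfsg.Agent.LocalEvenB.exists_mem_center_ne_one N hN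
    obtain ⟨x, hxc, rfl⟩ := hzN
    have hLd : (_root_.commutator L).map L.subtype = ⁅L, L⁆ := by
      rw [_root_.commutator_def, map_commutator, ← MonoidHom.range_eq_map, range_subtype]
    let A : Subgroup G :=
      { carrier := {g | g ∈ ⁅L, L⁆ ∧ ∀ l ∈ L, ⁅g, l⁆ ∈ Zs}
        one_mem' := ⟨one_mem _, fun l _ => by rw [commutatorElement_one_left]; exact Zs.one_mem⟩
        mul_mem' := fun {g g'} hg hg' => ⟨mul_mem hg.1 hg'.1, fun l hl => by
          rw [show ⁅g * g', l⁆ = g * ⁅g', l⁆ * g⁻¹ * ⁅g, l⁆ by simp only [commutatorElement_def]; group,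
            ← (hZc _ (hg'.2 l hl) g).eq, mul_inv_cancel_right]
          exact Zs.mul_mem (hg'.2 l hl) (hg.2 l hl)⟩
        inv_mem' := fun {g} hg => ⟨inv_mem hg.1, fun l hl => by
          have h := hg.2 l hl
          have e : ⁅g⁻¹, l⁆ = g⁻¹ * ⁅g, l⁆⁻¹ * g := by simp only [commutatorElement_def]; group
          rw [e, ← (hZc _ (Zs.inv_mem h) g⁻¹).eq, inv_mul_cancel_right]
          exact Zs.inv_mem h⟩ }
    have hAZ : A ≤ Zs := by
      refine H0 A ⟨fun g hg t => ⟨(commutator_normal L L).conj_mem g hg.1 t, fun l hl => ?_⟩⟩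
        (fun g hg => hLR (commutator_le_left L L hg.1)) ?_
      · have h1 := hg.2 (t⁻¹ * l * t) (by simpa using hLn.conj_mem l hl t⁻¹)
        have e : ⁅t * g * t⁻¹, l⁆ = t * ⁅g, t⁻¹ * l * t⁆ * t⁻¹ := by simp only [commutatorElement_def]; group
        rw [e, ← (hZc _ h1 t).eq, mul_inv_cancel_right]
        exact h1
      · intro g hg g' hg'
        have hle : ⁅L, L⁆ ≤ centralizer {g} := by
          rw [commutator_le]
          exact fun l hl m hm => mem_centralizer_singleton_iff.2 (hconjc g l m (hg.2 l hl) (hg.2 m hm)).eq.symm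
        exact (mem_centralizer_singleton_iff.1 (hle hg'.1)).symm
    have hxA : (x : G) ∈ A := by
      refine ⟨hLd ▸ mem_map_of_mem _ hxc, fun l hl => ?_⟩
      have h1 := mem_center_iff.1 hzc ((⟨l, hl⟩ : L) : L ⧸ center L)
      have h2 : ⁅x, (⟨l, hl⟩ : L)⁆ ∈ center L := by
        rw [← QuotientGroup.eq_one_iff, ← QuotientGroup.mk'_apply, map_commutatorElement,
          commutatorElement_eq_one_iff_mul_comm]
        exact h1.symm
      exact hZL ((⁅x, (⟨l, hl⟩ : L)⁆ : L) : G) (⁅x, (⟨l, hl⟩ : L)⁆ : L).2 fun m hm =>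
        (congrArg Subtype.val (mem_center_iff.1 h2 ⟨m, hm⟩)).symm
    apply hz1
    rw [QuotientGroup.mk'_apply, QuotientGroup.eq_one_iff, mem_center_iff]
    exact fun m => Subtype.ext (hZc _ (hAZ hxA) m).eq.symm
  have hbil : ∀ u ∈ L, ∀ w ∈ L, ∀ m ∈ L, ⁅u * w, m⁆ = ⁅u, m⁆ * ⁅w, m⁆ := by
    intro u hu w hw m hm
    rw [show ⁅u * w, m⁆ = u * ⁅w, m⁆ * u⁻¹ * ⁅u, m⁆ by simp only [commutatorElement_def]; group,
      ← (hZc _ (hLL w hw m hm) u).eq, mul_inv_cancel_right, (hZc _ (hLL w hw m hm) ⁅u, m⁆).eq]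
  have hsqL : ∀ u ∈ L, u * u ∈ Zs := fun u hu => hZL _ (L.mul_mem hu hu) fun m hm =>
    commutatorElement_eq_one_iff_mul_comm.1 (by rw [hbil u hu u hu m hm, hZ2 _ (hLL u hu m hm)])
  -- centralisers
  have hC : ∀ r ∈ R, (∀ l ∈ L, Commute r l) → r ∈ Zs := by
    intro r hr hrl
    haveI : (R ⊓ centralizer (L : Set G)).Normal := inferInstance
    have hle : R ⊓ centralizer (L : Set G) ≤ L := by
      by_contra hno
      obtain ⟨K, hKn, hKC, hKL, hKc⟩ := H2 _ inferInstance inf_le_left hno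
      refine hKL (H1 K hKn (hKC.trans inf_le_left) fun u hu w hw => ?_)
      have hL' := hKc (commutator_mem_commutator hu hw)
      exact hZL _ hL' fun m hm => ((commutator_mem_commutator hu hw : ⁅u, w⁆ ∈ ⁅K, K⁆) |>
        fun h => (hKC ((commutator_le_left K K) h)).2 m hm).symm
    exact hZL r (hle ⟨hr, fun l hl => (hrl l hl).eq.symm⟩) hrl
  have hC1 : ∀ r ∈ R, (∀ l ∈ L, ⁅r, l⁆ ∈ Zs) → r ∈ L := by
    let C1 : Subgroup G :=
      { carrier := {r | r ∈ R ∧ ∀ l ∈ L, ⁅r, l⁆ ∈ Zs}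
        one_mem' := ⟨R.one_mem, fun l _ => by rw [commutatorElement_one_left]; exact Zs.one_mem⟩
        mul_mem' := fun {g g'} hg hg' => ⟨R.mul_mem hg.1 hg'.1, fun l hl => by
          rw [show ⁅g * g', l⁆ = g * ⁅g', l⁆ * g⁻¹ * ⁅g, l⁆ by simp only [commutatorElement_def]; group,
            ← (hZc _ (hg'.2 l hl) g).eq, mul_inv_cancel_right]
          exact Zs.mul_mem (hg'.2 l hl) (hg.2 l hl)⟩
        inv_mem' := fun {g} hg => ⟨R.inv_mem hg.1, fun l hl => by
          have h := hg.2 l hl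
          have e : ⁅g⁻¹, l⁆ = g⁻¹ * ⁅g, l⁆⁻¹ * g := by simp only [commutatorElement_def]; group
          rw [e, ← (hZc _ (Zs.inv_mem h) g⁻¹).eq, inv_mul_cancel_right]
          exact Zs.inv_mem h⟩ }
    have hn : C1.Normal := ⟨fun g hg t => ⟨hRn.conj_mem g hg.1 t, fun l hl => by
      have h1 := hg.2 (t⁻¹ * l * t) (by simpa using hLn.conj_mem l hl t⁻¹)
      have e : ⁅t * g * t⁻¹, l⁆ = t * ⁅g, t⁻¹ * l * t⁆ * t⁻¹ := by simp only [commutatorElement_def]; group
      rw [e, ← (hZc _ h1 t).eq, mul_inv_cancel_right]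
      exact h1⟩⟩
    have hle : C1 ≤ L := H1 C1 hn (fun r hr => hr.1) fun u hu w hw => hC _
      (R.mul_mem (R.mul_mem (R.mul_mem hu.1 hw.1) (R.inv_mem hu.1)) (R.inv_mem hw.1)) fun l hl =>
        (hconjc l u w (by rw [← commutatorElement_inv]; exact Zs.inv_mem (hu.2 l hl))
          (by rw [← commutatorElement_inv]; exact Zs.inv_mem (hw.2 l hl))).symm
    exact fun r hr h => hle ⟨hr, h⟩
  -- an element of order four acting as a square root of minus one
  obtain ⟨x, hx, hy⟩ : ∃ x ∈ L, ⁅x, b⁆ * ⁅x, b⁆ ≠ 1 := by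
    by_contra hno
    push_neg at hno
    have hfL : ∀ u ∈ L, ⁅u, b⁆ ∈ L := fun u hu => by
      rw [commutatorElement_def, show u * b * u⁻¹ * b⁻¹ = u * (b * u⁻¹ * b⁻¹) by group]
      exact L.mul_mem hu (hLn.conj_mem _ (L.inv_mem hu) b)
    have hff : ∀ u ∈ L, ∀ w ∈ L, ⁅⁅u, b⁆, ⁅w, b⁆⁆ = 1 := by
      intro u hu w hw
      obtain ⟨z, hz, e1⟩ : ∃ z ∈ Zs, ⁅u * w, b⁆ = z * ⁅w, b⁆ * ⁅u, b⁆ :=
        ⟨⁅u, ⁅w, b⁆⁆, hLL u hu _ (hfL w hw), by simp only [commutatorElement_def]; group⟩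
      have h1 := hno (u * w) (L.mul_mem hu hw)
      rw [e1, mul_assoc z, show z * (⁅w, b⁆ * ⁅u, b⁆) * (z * (⁅w, b⁆ * ⁅u, b⁆)) =
        z * ((⁅w, b⁆ * ⁅u, b⁆) * z) * (⁅w, b⁆ * ⁅u, b⁆) by group, ← (hZc z hz (⁅w, b⁆ * ⁅u, b⁆)).eq, ← mul_assoc z z,
        hZ2 z hz, one_mul] at h1
      have hi1 : ⁅u, b⁆⁻¹ = ⁅u, b⁆ := inv_eq_of_mul_eq_one_right (hno u hu)
      have hi2 : ⁅w, b⁆⁻¹ = ⁅w, b⁆ := inv_eq_of_mul_eq_one_right (hno w hw)
      rw [commutatorElement_def, hi1, hi2]
      have h3 := eq_inv_of_mul_eq_one_left h1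
      rw [mul_inv_rev, hi1, hi2] at h3
      rw [mul_assoc (⁅u, b⁆ * ⁅w, b⁆), ← h3]
      rw [h3]
      nth_rewrite 2 [← h3]
      exact h1 ▸ (by rw [← h3])
    have hall : ∀ u ∈ L, ⁅u, b⁆ ∈ Zs := by
      intro u hu
      refine hZL _ (hfL u hu) fun m hm => commutatorElement_eq_one_iff_mul_comm.1 ?_
      have hb3 : b * b * b = 1 := by rw [← pow_two, ← pow_succ, I.setting.ord]
      have hφ : ∀ n ∈ L, ⁅⁅u, b⁆, b * n * b⁻¹⁆ = ⁅⁅u, b⁆, n⁆ := by
        intro n hn
        have hn' := hLn.conj_mem n hn b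
        have e : n = ⁅n, b⁆ * (b * n * b⁻¹) := by simp only [commutatorElement_def]; group
        have h : ⁅⁅u, b⁆, n⁆ = ⁅⁅u, b⁆, ⁅n, b⁆⁆ * ⁅⁅u, b⁆, b * n * b⁻¹⁆ := by
          nth_rewrite 1 [e]
          rw [show ⁅⁅u, b⁆, ⁅n, b⁆ * (b * n * b⁻¹)⁆ = ⁅⁅u, b⁆, ⁅n, b⁆⁆ * (⁅n, b⁆ * ⁅⁅u, b⁆, b * n * b⁻¹⁆ * ⁅n, b⁆⁻¹) by
            simp only [commutatorElement_def]; group, ← (hZc _ (hLL _ (hfL u hu) _ hn') ⁅n, b⁆).eq, mul_inv_cancel_right]
        rw [h, hff u hu n hn, one_mul]
      obtain ⟨N, hN⟩ : ∃ N, N = m * (b * m * b⁻¹) * (b * (b * m * b⁻¹) * b⁻¹) := ⟨_, rfl⟩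
      have hm1 := hLn.conj_mem m hm b
      have hm2 := hLn.conj_mem _ hm1 b
      have hNL : N ∈ L := hN ▸ L.mul_mem (L.mul_mem hm hm1) hm2
      have hright : ∀ a ∈ L, ∀ c ∈ L, ⁅⁅u, b⁆, a * c⁆ = ⁅⁅u, b⁆, a⁆ * ⁅⁅u, b⁆, c⁆ := fun a ha c hc => by
        rw [show ⁅⁅u, b⁆, a * c⁆ = ⁅⁅u, b⁆, a⁆ * (a * ⁅⁅u, b⁆, c⁆ * a⁻¹) by simp only [commutatorElement_def]; group,
          ← (hZc _ (hLL _ (hfL u hu) _ hc) a).eq, mul_inv_cancel_right]
      have hN1 : ⁅⁅u, b⁆, N⁆ = ⁅⁅u, b⁆, m⁆ := by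
        rw [hN, hright _ (L.mul_mem hm hm1) _ hm2, hright _ hm _ hm1, hφ _ hm1, hφ _ hm,
          hZ2 _ (hLL _ (hfL u hu) _ hm), one_mul]
      rw [← hN1]
      -- `N` is fixed modulo the signs
      have hbN : b * N * b⁻¹ = m⁻¹ * N * m := by
        rw [hN, show m⁻¹ * (m * (b * m * b⁻¹) * (b * (b * m * b⁻¹) * b⁻¹)) * m =
          (b * m * b⁻¹) * (b * (b * m * b⁻¹) * b⁻¹) * m by group,
          show b * (m * (b * m * b⁻¹) * (b * (b * m * b⁻¹) * b⁻¹)) * b⁻¹ =
          (b * m * b⁻¹) * (b * (b * m * b⁻¹) * b⁻¹) * ((b * b * b) * m * (b * b * b)⁻¹) by group, hb3]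
        group
      obtain ⟨z, hz, hzb⟩ : ∃ z ∈ Zs, b⁻¹ * N * b = z * N := by
        refine ⟨⁅b⁻¹, N⁆, ?_, by rw [commutatorElement_def, inv_inv, inv_mul_cancel_right]⟩
        have h1 : ⁅b, N⁆ ∈ Zs := by
          rw [commutatorElement_def, hbN, show m⁻¹ * N * m * N⁻¹ = ⁅m⁻¹, N⁆ by rw [commutatorElement_def, inv_inv]]
          exact hLL _ (L.inv_mem hm) _ hNL
        have e : ⁅b⁻¹, N⁆ = b⁻¹ * ⁅b, N⁆⁻¹ * b := by simp only [commutatorElement_def]; group
        rw [e, ← (hZc _ (Zs.inv_mem h1) b⁻¹).eq, inv_mul_cancel_right]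
        exact Zs.inv_mem h1
      have h2 : ⁅b * u⁻¹ * b⁻¹, N⁆ = ⁅u⁻¹, N⁆ := by
        have e : ⁅b * u⁻¹ * b⁻¹, N⁆ = b * ⁅u⁻¹, b⁻¹ * N * b⁆ * b⁻¹ := by simp only [commutatorElement_def]; group
        have e2 : ⁅u⁻¹, z * N⁆ = ⁅u⁻¹, N⁆ := by
          rw [show ⁅u⁻¹, z * N⁆ = u⁻¹ * (z * u) * (u⁻¹ * N * u * N⁻¹) * z⁻¹ by simp only [commutatorElement_def]; group,
            (hZc z hz u).eq, inv_mul_cancel_left, (hZc z hz _).eq, mul_inv_cancel_right, commutatorElement_def, inv_inv]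
        rw [e, hzb, e2, ← (hZc _ (hLL _ (L.inv_mem hu) _ hNL) b).eq, mul_inv_cancel_right]
      rw [show ⁅u, b⁆ = u * (b * u⁻¹ * b⁻¹) by rw [commutatorElement_def]; group,
        hbil u hu _ (hLn.conj_mem _ (L.inv_mem hu) b) N hNL, h2, ← hbil u hu _ (L.inv_mem hu) N hNL, mul_inv_cancel,
        commutatorElement_one_left]
    apply hLab
    have hLb : ∀ u ∈ L, Commute u b := by
      intro u hu
      obtain ⟨z, hz⟩ : ∃ z, z = ⁅u, b⁆ := ⟨_, rfl⟩
      have hzZ : z ∈ Zs := hz ▸ hall u hu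
      have e : u * b * u⁻¹ = z * b := by rw [hz, commutatorElement_def, inv_mul_cancel_right]
      have h1 : (u * b * u⁻¹) ^ 3 = 1 := by rw [conj_pow, I.setting.ord, mul_one, mul_inv_cancel]
      rw [e, (hZc z hzZ b).mul_pow, I.setting.ord, mul_one, pow_succ, pow_two, hZ2 z hzZ, one_mul] at h1
      rw [h1, one_mul] at e
      exact mul_inv_eq_iff_eq_mul.1 e
    exact fun u hu w hw => I.centralize L hLb w (hLR hw) u hu
  obtain ⟨y, hydef⟩ : ∃ y, y = ⁅x, b⁆ := ⟨_, rfl⟩
  rw [← hydef] at hy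
  have hyL : y ∈ L := by
    rw [hydef, commutatorElement_def, show x * b * x⁻¹ * b⁻¹ = x * (b * x⁻¹ * b⁻¹) by group]
    exact L.mul_mem hx (hLn.conj_mem _ (L.inv_mem hx) b)
  have hy2 : ∀ v, ρ y (ρ y v) = -v := by
    obtain ⟨-, s, hs⟩ := hsqL y hyL
    intro v
    rw [rho_comp, hs]
    cases s
    · exfalso
      apply hy
      apply I.setting.faith
      ext w
      rw [hs, map_one]
      simp [sgn]
    · simp [sgn]
  obtain ⟨W, hW⟩ : ∃ W, W = LinearMap.range (ρ b - 1) := ⟨_, rfl⟩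
  have hE : Nat.card E ≤ 81 := by
    let f : W × W → E := fun p => ρ x p.1 + p.2
    have hf : Function.Surjective f := by
      intro v
      obtain ⟨w, hw⟩ : ∃ w, w = ρ y v + v := ⟨_, rfl⟩
      have hv : ρ y w - w = v := by
        rw [hw, map_add, hy2]
        rw [show -v + ρ y v - (ρ y v + v) = -(v + v) by abel, ← two_smul (ZMod 3) v,
          ← neg_smul, show -(2 : ZMod 3) = 1 by decide, one_smul]
      obtain ⟨u, hu⟩ : ∃ u, u = ρ x⁻¹ (ρ b⁻¹ w) := ⟨_, rfl⟩
      refine ⟨(⟨ρ b u - u, hW ▸ ⟨u, rfl⟩⟩, ⟨-(ρ b (ρ b⁻¹ w) - ρ b⁻¹ w), W.neg_mem (hW ▸ ⟨ρ b⁻¹ w, rfl⟩)⟩), ?_⟩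
      show ρ x (ρ b u - u) + -(ρ b (ρ b⁻¹ w) - ρ b⁻¹ w) = v
      rw [map_sub, hu, rho_comp ρ x x⁻¹, mul_inv_cancel, map_one, rho_comp ρ b b⁻¹, mul_inv_cancel, map_one, ← hv, hydef,
        commutatorElement_def, ← rho_comp, ← rho_comp, ← rho_comp]
      simp only [Module.End.one_apply]
      abel
    refine (Nat.card_le_card_of_surjective f hf).trans ?_
    have := I.setting.rank
    rw [Nat.card_prod, hW]
    nlinarith
  haveI : Module.Finite (ZMod 3) E := Module.Finite.of_finite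
  have hd : Module.finrank (ZMod 3) E ≤ 4 := by
    by_contra hd
    have h := Module.natCard_eq_pow_finrank (K := ZMod 3) (V := E)
    rw [Nat.card_zmod] at h
    have : 3 ^ 5 ≤ 3 ^ Module.finrank (ZMod 3) E := Nat.pow_le_pow_right (by norm_num) (by omega)
    omega
  have hG : Nat.card G ∣ 24261120 := by
    let e := (Module.finBasis (ZMod 3) E).equivFun
    let M : (E ≃ₗ[ZMod 3] E) ≃* GL (Fin (Module.finrank (ZMod 3) E)) (ZMod 3) :=
      ((LinearMap.GeneralLinearGroup.generalLinearEquiv (ZMod 3) E).symm.trans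
        (LinearMap.GeneralLinearGroup.congrLinearEquiv e)).trans
        Matrix.GeneralLinearGroup.toLin.symm
    let toE : G →* (E ≃ₗ[ZMod 3] E) := MonoidHom.mk' (fun g =>
        { ρ g with invFun := ρ g⁻¹, left_inv := rho_inv_apply ρ g,
                   right_inv := fun v => by
                     show ρ g (ρ g⁻¹ v) = v
                     rw [rho_comp, mul_inv_cancel, map_one]; rfl })
      fun g h => LinearEquiv.ext fun v => (rho_comp ρ g h v).symm
    have hinj : Function.Injective (M.toMonoidHom.comp toE) := M.injective.comp fun g h hgh =>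
      I.setting.faith (LinearMap.ext fun v => LinearEquiv.congr_fun hgh v)
    refine (Subgroup.card_dvd_of_injective _ hinj).trans ?_
    rw [Matrix.card_GL_field]
    exact gl_dvd _ hd
  -- the core modulo the signs
  obtain ⟨Zl, hZl⟩ : ∃ Zl, Zl = Zs.subgroupOf L := ⟨_, rfl⟩
  haveI hZln : Zl.Normal := hZl ▸ ⟨fun z hz g => by
    rw [mem_subgroupOf] at hz ⊢
    rw [Subgroup.coe_mul, Subgroup.coe_mul, InvMemClass.coe_inv, ← (hZc _ hz (g : G)).eq, mul_inv_cancel_right]
    exact hz⟩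
  have hmemZl : ∀ u : L, u ∈ Zl ↔ (u : G) ∈ Zs := fun u => by rw [hZl]; exact mem_subgroupOf
  have h16 : Nat.card (L ⧸ Zl) ≤ 16 := by
    haveI : Fintype L := Fintype.ofFinite L
    haveI : Fintype (L ⧸ Zl) := Fintype.ofFinite _
    obtain ⟨t, ht⟩ : ∃ t : L → Module.End (ZMod 3) (Module.End (ZMod 3) E),
        ∀ l T, t l T = ρ (l : G) * T * ρ ((l : G)⁻¹) :=
      ⟨fun l =>
        { toFun := fun T => ρ (l : G) * T * ρ ((l : G)⁻¹)
          map_add' := fun S T => by rw [mul_add, add_mul]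
          map_smul' := fun c T => by rw [mul_smul_comm, smul_mul_assoc]; rfl }, fun _ _ => rfl⟩
    have hchar : ∀ c : L ⧸ Zl, ∃ χ : L → Bool,
        ρ ((c.out : L) : G) ∈ comp t χ ∧ ∀ l : L, χ l = decide (⁅(l : G), ((c.out : L) : G)⁆ ≠ 1) := by
      intro c
      refine ⟨_, ?_, fun l => rfl⟩
      intro l
      rw [ht, ← map_mul, ← map_mul]
      obtain ⟨hzR, s, hs⟩ := hLL _ l.2 _ (c.out : L).2
      have hdec : decide (⁅(l : G), ((c.out : L) : G)⁆ ≠ 1) = s := by
        cases s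
        · rw [decide_eq_false_iff_not, not_not]
          apply I.setting.faith
          ext v
          rw [hs, map_one]; simp [sgn]
        · rw [decide_eq_true_iff]
          intro h1
          obtain ⟨e, he, he0⟩ := Submodule.exists_mem_ne_zero_of_ne_bot (I.setting.exists_line 0)
          have := hs e
          rw [h1, map_one] at this
          apply he0
          have h2 : (2 : ZMod 3) • e = 0 := by
            rw [two_smul]
            nth_rewrite 1 [show e = -e by simpa [sgn] using this]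
            exact neg_add_cancel e
          rw [← one_smul (ZMod 3) e, ← half_two, ← smul_smul, h2, smul_zero]
      beta_reduce
      rw [hdec, show (l : G) * ((c.out : L) : G) * (l : G)⁻¹ = ⁅(l : G), ((c.out : L) : G)⁆ * ((c.out : L) : G) by
        rw [commutatorElement_def, inv_mul_cancel_right]]
      refine LinearMap.ext fun v => ?_
      rw [map_mul, Module.End.mul_apply, hs]
      rfl
    choose χ hχ hχ' using hchar
    have hχinj : Function.Injective χ := by
      intro c d h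
      rw [← c.out_eq, ← d.out_eq]
      refine QuotientGroup.eq.2 ((hmemZl _).2 (hZL _ (SetLike.coe_mem _) fun m hm =>
        commutatorElement_eq_one_iff_mul_comm.1 ?_))
      have hcd := congrFun h ⟨m, hm⟩
      rw [hχ', hχ'] at hcd
      have hflip : ∀ n ∈ L, ⁅n, m⁆ = ⁅m, n⁆ := fun n hn => by
        rw [← commutatorElement_inv]
        exact inv_eq_of_mul_eq_one_right (hZ2 _ (hLL m hm n hn))
      rw [Subgroup.coe_mul, InvMemClass.coe_inv, hbil _ (L.inv_mem (c.out : L).2) _ (d.out : L).2 m hm,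
        hflip _ (L.inv_mem (c.out : L).2), hflip _ (d.out : L).2]
      have hinv : ⁅m, ((c.out : L) : G)⁻¹⁆ = ⁅m, ((c.out : L) : G)⁆ := by
        have e := hflip _ (L.inv_mem (c.out : L).2)
        have h1 := hbil _ (L.inv_mem (c.out : L).2) _ (c.out : L).2 m hm
        rw [inv_mul_cancel, commutatorElement_one_left] at h1
        rw [← e, eq_inv_of_mul_eq_one_left h1.symm, hflip _ (c.out : L).2,
          inv_eq_of_mul_eq_one_right (hZ2 _ (hLL m hm _ (c.out : L).2))]
      rw [hinv]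
      obtain ⟨zc, hzc, hzc'⟩ : ∃ z ∈ Zs, z = ⁅m, ((c.out : L) : G)⁆ := ⟨_, hLL m hm _ (c.out : L).2, rfl⟩
      obtain ⟨zd, hzd, hzd'⟩ : ∃ z ∈ Zs, z = ⁅m, ((d.out : L) : G)⁆ := ⟨_, hLL m hm _ (d.out : L).2, rfl⟩
      rw [← hzc', ← hzd'] at hcd ⊢
      by_cases h1 : zc = 1
      · have h2 : zd = 1 := by
          by_contra h2
          simp [h1, h2] at hcd
        rw [h1, h2, one_mul]
      · have h2 : zd ≠ 1 := fun h2 => by simp [h1, h2] at hcd
        have hsgn : ∀ z ∈ Zs, z ≠ 1 → ∀ v, ρ z v = -v := by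
          rintro z ⟨-, s, hs⟩ hne v
          cases s
          · exfalso
            apply hne
            apply I.setting.faith
            ext w
            rw [hs, map_one]; simp [sgn]
          · rw [hs]; simp [sgn]
        have : zc = zd := I.setting.faith (LinearMap.ext fun v => by rw [hsgn zc hzc h1, hsgn zd hzd h2])
        rw [this, hZ2 zd hzd]
    let f : (L ⧸ Zl → ZMod 3) → Module.End (ZMod 3) E := fun a => ∑ c, a c • ρ ((c.out : L) : G)
    have hf : Function.Injective f := by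
      intro a a' h
      funext d
      have h' : proj t (χ d) (f a) = proj t (χ d) (f a') := by rw [h]
      have e : ∀ a : L ⧸ Zl → ZMod 3, proj t (χ d) (f a) = a d • ρ ((d.out : L) : G) := by
        intro a
        rw [map_sum, Finset.sum_eq_single d]
        · rw [map_smul, proj_self t _ (hχ d)]
        · intro c _ hcd
          rw [map_smul, proj_ne t (fun he => hcd (hχinj he).symm) (hχ c), smul_zero]
        · exact fun hn => absurd (Finset.mem_univ d) hn
      rw [e, e] at h'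
      obtain ⟨e', he', he0⟩ := Submodule.exists_mem_ne_zero_of_ne_bot (I.setting.exists_line 0)
      refine smul_left_injective _ (fun h0 => he0 (rho_injective ρ ((d.out : L) : G) ?_)) h'
      rw [map_zero]
      exact LinearMap.congr_fun h0 e'
    haveI : Finite (Module.End (ZMod 3) E) := Finite.of_injective (fun T => (T : E → E)) DFunLike.coe_injective
    have h1 := Nat.card_le_card_of_injective f hf
    rw [Nat.card_fun, Nat.card_zmod, Module.natCard_eq_pow_finrank (K := ZMod 3) (V := Module.End (ZMod 3) E),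
      Nat.card_zmod, Module.finrank_linearMap] at h1
    have h2 := (Nat.pow_le_pow_iff_right (by norm_num)).1 h1
    nlinarith
  obtain ⟨m, hm⟩ := IsPGroup.iff_card.1 (hL2.to_quotient Zl)
  have hm4 : m < 5 := by
    by_contra h
    have : 2 ^ 5 ≤ 2 ^ m := Nat.pow_le_pow_right (by norm_num) (by omega)
    omega
  -- the action on the core modulo the signs
  have hact : ∀ g : G, ∃ φ : MulAut (L ⧸ Zl), ∀ u : L, φ (u : L ⧸ Zl) = ((MulAut.conjNormal g u : L) : L ⧸ Zl) := by
    intro g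
    refine ⟨QuotientGroup.congr Zl Zl (MulAut.conjNormal g) ?_, fun u => rfl⟩
    ext u
    constructor
    · rintro ⟨w, hw, rfl⟩
      rw [hmemZl]
      show ((MulAut.conjNormal g w : L) : G) ∈ Zs
      rw [MulAut.conjNormal_apply, ← (hZc _ ((hmemZl w).1 hw) g).eq, mul_inv_cancel_right]
      exact (hmemZl w).1 hw
    · intro hu
      refine ⟨u, hu, Subtype.ext ?_⟩
      show ((MulAut.conjNormal g u : L) : G) = u
      rw [MulAut.conjNormal_apply, ← (hZc _ ((hmemZl u).1 hu) g).eq, mul_inv_cancel_right]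
  choose φ hφ using hact
  have hφmul : ∀ g h, φ (g * h) = φ g * φ h := fun g h => MulEquiv.ext fun u => by
    obtain ⟨u, rfl⟩ := QuotientGroup.mk_surjective u
    rw [MulAut.mul_apply, hφ, hφ, hφ, map_mul]; rfl
  let Φ : G →* MulAut (L ⧸ Zl) := MonoidHom.mk' φ hφmul
  have hkerL : ∀ u ∈ L, Φ u = 1 := fun u hu => MulEquiv.ext fun w => by
    obtain ⟨w, rfl⟩ := QuotientGroup.mk_surjective w
    show φ u _ = _
    rw [hφ, MulAut.one_apply, QuotientGroup.eq, hmemZl, Subgroup.coe_mul, InvMemClass.coe_inv, MulAut.conjNormal_apply,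
      show (u * (w : G) * u⁻¹)⁻¹ * w = ⁅u, (w : G)⁻¹⁆ by rw [commutatorElement_def]; group]
    exact hLL u hu _ (L.inv_mem w.2)
  have hker : ∀ r ∈ R, Φ r = 1 → r ∈ L := by
    intro r hr h
    refine hC1 r hr fun l hl => ?_
    have h1 := hφ r ⟨l, hl⟩
    rw [show φ r = Φ r from rfl, h, MulAut.one_apply] at h1
    have h2 := (hmemZl _).1 (QuotientGroup.eq.1 h1)
    rw [Subgroup.coe_mul, InvMemClass.coe_inv, MulAut.conjNormal_apply] at h2
    rw [commutatorElement_def, show r * l * r⁻¹ * l⁻¹ = l * (l⁻¹ * (r * l * r⁻¹)) * l⁻¹ by group,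
      ← (hZc _ h2 l).eq, mul_inv_cancel_right]
    exact h2
  have hfix : ∀ (p : ℕ) [Fact p.Prime] (g : G), Φ g ^ p = 1 → Φ g ≠ 1 →
      ∃ F : Subgroup (L ⧸ Zl), (∀ u, u ∈ F ↔ Φ g u = u) ∧ ∃ a, a < m ∧ Nat.card F = 2 ^ a ∧ (2 ^ m - 2 ^ a) % p = 0 := by
    intro p _ g hg hg1
    obtain ⟨F, hF, hmod⟩ := fixed_mod p (Φ g) hg
    obtain ⟨a, ha⟩ := IsPGroup.iff_card.1 ((hL2.to_quotient Zl).to_subgroup F)
    refine ⟨F, hF, a, ?_, ha, ?_⟩
    · have hle : 2 ^ a ≤ 2 ^ m := by rw [← ha, ← hm]; exact card_le_card_group F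
      rcases lt_or_eq_of_le ((Nat.pow_le_pow_iff_right (by norm_num)).1 hle) with h | h
      · exact h
      · exfalso
        have htop : F = ⊤ := eq_top_of_card_eq _ (by rw [ha, hm, h])
        exact hg1 (MulEquiv.ext fun u => (hF u).1 (htop ▸ mem_top u))
    · rw [ha, hm] at hmod
      exact Nat.sub_mod_eq_zero_of_mod_eq hmod.symm
  have hprimes : ∀ p : ℕ, p.Prime → p ∣ 24261120 → p = 2 ∨ p = 3 ∨ p = 5 ∨ p = 13 := by
    intro p hp h
    have h' : p ∣ 2 ^ 9 * 3 ^ 6 * 5 * 13 := by norm_num; exact h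
    rcases hp.dvd_mul.1 h' with h | h
    · rcases hp.dvd_mul.1 h with h | h
      · rcases hp.dvd_mul.1 h with h | h
        · exact Or.inl ((Nat.prime_dvd_prime_iff_eq hp Nat.prime_two).1 (hp.dvd_of_dvd_pow h))
        · exact Or.inr (Or.inl ((Nat.prime_dvd_prime_iff_eq hp Nat.prime_three).1 (hp.dvd_of_dvd_pow h)))
      · exact Or.inr (Or.inr (Or.inl ((Nat.prime_dvd_prime_iff_eq hp (by norm_num)).1 h)))
    · exact Or.inr (Or.inr (Or.inr ((Nat.prime_dvd_prime_iff_eq hp (by norm_num)).1 h)))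
  have hquot : ∀ K : Subgroup G, K ≤ R → ∀ p : ℕ, p.Prime → p ∣ Nat.card (K.map (QuotientGroup.mk' L)) →
      (p = 2 ∨ p = 5) := by
    intro K hK p hp hdvd
    haveI := Fact.mk hp
    have hpK : p ∣ Nat.card K := hdvd.trans (K.card_map_dvd _)
    obtain ⟨k, hk⟩ := exists_prime_orderOf_dvd_card' (G := K) p hpK
    have hk' : orderOf (k : G) = p := by rw [Subgroup.orderOf_coe, hk]
    rcases hprimes p hp (hpK.trans ((card_subgroup_dvd_card K).trans hG)) with rfl | rfl | rfl | rfl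
    · exact Or.inl rfl
    · exfalso
      have := hinv_ord _ (hK k.2)
      rw [hk'] at this
      norm_num at this
    · exact Or.inr rfl
    · exfalso
      have hk1 : Φ (k : G) = 1 := by
        by_contra hne
        obtain ⟨F, -, a, ham, -, hmod⟩ := hfix 13 (k : G) (by rw [← map_pow, ← hk', pow_orderOf_eq_one, map_one]) hne
        have := thirteen_pow m hm4 a (by omega) hmod (by omega)
        omega
      have hkL := hker _ (hK k.2) hk1
      obtain ⟨j, hj⟩ := hL2 ⟨(k : G), hkL⟩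
      have h13 : 13 ∣ 2 ^ j := by
        rw [← hk']
        exact orderOf_dvd_of_pow_eq_one (congrArg Subtype.val hj)
      have := (Nat.prime_dvd_prime_iff_eq (by norm_num) Nat.prime_two).1 ((by norm_num : Nat.Prime 13).dvd_of_dvd_pow h13)
      omega
  -- the whole subgroup is the core
  have hRL : R ≤ L := by
    by_contra hno
    obtain ⟨K, hKn, hKR, hKL, hKc⟩ := H2 R hRn le_rfl hno
    obtain ⟨Kb, hKb⟩ : ∃ Kb, Kb = K.map (QuotientGroup.mk' L) := ⟨_, rfl⟩
    have hKbab : ∀ u ∈ K, ∀ w ∈ K, ((u : G) : G ⧸ L) * w = (w : G ⧸ L) * u := fun u hu w hw => by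
      rw [← commutatorElement_eq_one_iff_mul_comm, ← QuotientGroup.mk'_apply, ← QuotientGroup.mk'_apply, ← map_commutatorElement,
        QuotientGroup.mk'_apply, QuotientGroup.eq_one_iff]
      exact hKc (commutator_mem_commutator hu hw)
    have hodd : ¬ 2 ∣ Nat.card Kb := by
      intro h2
      let K2 : Subgroup G :=
        { carrier := {u | u ∈ K ∧ ∃ i : ℕ, ((u : G) : G ⧸ L) ^ 2 ^ i = 1}
          one_mem' := ⟨K.one_mem, 0, by rw [QuotientGroup.mk_one, one_pow]⟩
          mul_mem' := fun {u w} hu hw => by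
            obtain ⟨hu, i, hi⟩ := hu
            obtain ⟨hw, j, hj⟩ := hw
            refine ⟨K.mul_mem hu hw, i + j, ?_⟩
            rw [QuotientGroup.mk_mul, (show Commute ((u : G) : G ⧸ L) w from hKbab u hu w hw).mul_pow]
            rw [show 2 ^ (i + j) = 2 ^ i * 2 ^ j from pow_add 2 i j]
            nth_rewrite 1 [pow_mul]
            rw [hi, one_pow, one_mul, mul_comm, pow_mul, hj, one_pow]
          inv_mem' := fun {u} hu => by
            obtain ⟨hu, i, hi⟩ := hu
            exact ⟨K.inv_mem hu, i, by rw [QuotientGroup.mk_inv, inv_pow, hi, inv_one]⟩ }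
      have hK2 : K2 ≤ L := by
        rw [hLdef]
        refine Cfsg.Agent.LocalEvenB.le_pCore ⟨fun u hu g => ?_⟩ ?_
        · obtain ⟨hu, i, hi⟩ := hu
          refine ⟨hKn.conj_mem u hu g, i, ?_⟩
          rw [QuotientGroup.mk_mul, QuotientGroup.mk_mul, QuotientGroup.mk_inv, conj_pow, hi, mul_one, mul_inv_cancel]
        · intro u
          obtain ⟨-, i, hi⟩ := u.2
          rw [← QuotientGroup.mk_pow, QuotientGroup.eq_one_iff] at hi
          obtain ⟨j, hj⟩ := hL2 ⟨_, hi⟩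
          refine ⟨i + j, Subtype.ext ?_⟩
          rw [SubmonoidClass.coe_pow, pow_add, pow_mul]
          exact congrArg Subtype.val hj
      obtain ⟨c, hc⟩ := exists_prime_orderOf_dvd_card' (G := Kb) 2 h2
      obtain ⟨u, hu, hue⟩ : (c : G ⧸ L) ∈ K.map (QuotientGroup.mk' L) := hKb ▸ c.2
      have huL : u ∈ L := hK2 ⟨hu, 1, by
        rw [pow_one, show ((u : G) : G ⧸ L) = (c : G ⧸ L) from hue, ← SubmonoidClass.coe_pow, ← hc, pow_orderOf_eq_one]; rfl⟩
      have : (c : G ⧸ L) = 1 := hue ▸ (QuotientGroup.eq_one_iff u).2 huL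
      rw [← Subgroup.orderOf_coe, this, orderOf_one] at hc
      omega
    have hne : Nat.card Kb ≠ 1 := fun h => hKL fun u hu => by
      rw [card_eq_one] at h
      have : ((u : G) : G ⧸ L) ∈ Kb := hKb ▸ ⟨u, hu, rfl⟩
      rw [h, mem_bot] at this
      exact (QuotientGroup.eq_one_iff u).1 this
    have hfive : 5 ∣ Nat.card Kb := by
      obtain ⟨p, hp, hpd⟩ := Nat.exists_prime_and_dvd hne
      rcases hquot K hKR p hp (hKb ▸ hpd) with rfl | rfl
      · exact absurd hpd hodd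
      · exact hpd
    have hcard5 : ∀ X : Subgroup G, X ≤ R → ¬ 2 ∣ Nat.card (X.map (QuotientGroup.mk' L)) →
        Nat.card (X.map (QuotientGroup.mk' L)) ∣ 5 := by
      intro X hX ho
      obtain ⟨j, hj⟩ : ∃ j, Nat.card (X.map (QuotientGroup.mk' L)) = 5 ^ j := by
        refine ⟨_, Nat.eq_prime_pow_of_unique_prime_dvd Nat.card_pos.ne' fun {d} hd hdd => ?_⟩
        rcases hquot X hX d hd hdd with rfl | rfl
        · exact absurd hdd ho
        · rfl
      rw [hj]
      have h := ((hj ▸ (X.card_map_dvd (QuotientGroup.mk' L))).trans ((card_subgroup_dvd_card X).trans hG))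
      by_cases h2 : 2 ≤ j
      · exfalso
        have : 5 ^ 2 ∣ 24261120 := (pow_dvd_pow 5 h2).trans h
        norm_num at this
      · interval_cases j <;> norm_num
    have hK5 : Nat.card Kb = 5 := Nat.dvd_antisymm (hKb ▸ hcard5 K hKR (hKb ▸ hodd)) hfive
    -- `b` centralises this section, hence so does `R`
    have hcentr : ∀ X : Subgroup G, X.Normal → Nat.card (X.map (QuotientGroup.mk' L)) ∣ 5 →
        ∀ u ∈ X, ⁅u, b⁆ ∈ L := by
      intro X hX h5 u hu
      rw [← QuotientGroup.eq_one_iff, ← QuotientGroup.mk'_apply, map_commutatorElement,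
        commutatorElement_eq_one_iff_mul_comm]
      obtain ⟨c, hc⟩ : ∃ c, c = (QuotientGroup.mk' L) u := ⟨_, rfl⟩
      obtain ⟨β, hβ⟩ : ∃ β, β = (QuotientGroup.mk' L) b := ⟨_, rfl⟩
      rw [← hc, ← hβ]
      by_cases hc1 : c = 1
      · rw [hc1, one_mul, mul_one]
      have hcm : c ∈ X.map (QuotientGroup.mk' L) := hc ▸ ⟨u, hu, rfl⟩
      have hoc : orderOf c = 5 := by
        have h1 : orderOf c ∣ 5 := by
          refine (orderOf_dvd_of_pow_eq_one ?_).trans h5
          exact congrArg Subtype.val (pow_card_eq_one' (x := (⟨c, hcm⟩ : X.map (QuotientGroup.mk' L))))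
        rcases (Nat.dvd_prime (by norm_num)).1 h1 with h | h
        · exact absurd (orderOf_eq_one_iff.1 h) hc1
        · exact h
      have hgen : X.map (QuotientGroup.mk' L) = zpowers c := (eq_of_le_of_card_ge (zpowers_le.2 hcm) (by
        rw [Nat.card_zpowers, hoc]; exact Nat.le_of_dvd (by norm_num) h5)).symm
      have hb : β * c * β⁻¹ ∈ zpowers c := by
        rw [← hgen, hβ, hc]
        exact ⟨b * u * b⁻¹, hX.conj_mem u hu b, by rw [map_mul, map_mul, map_inv]⟩
      obtain ⟨i, hi⟩ := mem_zpowers_iff.1 hb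
      have h3 : c ^ (i * i * i) = c := by
        have e : ∀ j : ℤ, β * c ^ j * β⁻¹ = c ^ (i * j) := fun j => by rw [← conj_zpow, ← hi, ← zpow_mul]
        have e3 : β * (β * (β * c * β⁻¹) * β⁻¹) * β⁻¹ = c := by
          rw [show β * (β * (β * c * β⁻¹) * β⁻¹) * β⁻¹ = β ^ 3 * c * (β ^ 3)⁻¹ by rw [pow_succ, pow_two]; group,
            hβ, ← map_pow, I.setting.ord, map_one]; group
        rw [← hi, e, e, ← mul_assoc] at e3
        exact e3
      have h5 : ((i * i * i : ℤ) : ZMod 5) = 1 := by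
        rw [← Int.cast_one, ZMod.intCast_eq_intCast_iff, ← hoc, ← zpow_eq_zpow_iff_modEq, h3, zpow_one]
      have hi1 : ((i : ℤ) : ZMod 5) = ((1 : ℤ) : ZMod 5) := by
        push_cast at h5 ⊢
        revert h5
        generalize (i : ZMod 5) = z
        revert z
        decide
      rw [ZMod.intCast_eq_intCast_iff, ← hoc, ← zpow_eq_zpow_iff_modEq, zpow_one] at hi1
      rw [hi1] at hi
      exact (mul_inv_eq_iff_eq_mul.1 hi.symm).symm
    by_cases h2R : 2 ∣ Nat.card (R.map (QuotientGroup.mk' L))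
    · obtain ⟨c, hc⟩ := exists_prime_orderOf_dvd_card' (G := R.map (QuotientGroup.mk' L)) 2 h2R
      obtain ⟨r, hr, hrc⟩ : (c : G ⧸ L) ∈ R.map (QuotientGroup.mk' L) := c.2
      haveI : Fact (Nat.Prime 5) := ⟨by norm_num⟩
      obtain ⟨k, hk⟩ := exists_prime_orderOf_dvd_card' (G := K) 5 (hfive.trans (hKb ▸ K.card_map_dvd _))
      have hk' : orderOf (k : G) = 5 := by rw [Subgroup.orderOf_coe, hk]
      have hr1 : Φ r ≠ 1 := fun h => by
        have hrL := hker r hr h
        have : (c : G ⧸ L) = 1 := hrc ▸ (QuotientGroup.eq_one_iff r).2 hrL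
        rw [← Subgroup.orderOf_coe, this, orderOf_one] at hc
        omega
      have hk1 : Φ (k : G) ≠ 1 := fun h => by
        obtain ⟨j, hj⟩ := hL2 ⟨(k : G), hker _ (hKR k.2) h⟩
        have h5 : 5 ∣ 2 ^ j := by
          rw [← hk']
          exact orderOf_dvd_of_pow_eq_one (congrArg Subtype.val hj)
        have := (Nat.prime_dvd_prime_iff_eq (by norm_num) Nat.prime_two).1 ((by norm_num : Nat.Prime 5).dvd_of_dvd_pow h5)
        omega
      have hr2 : Φ r ^ 2 = 1 := by
        rw [← map_pow]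
        refine hkerL _ ?_
        rw [← QuotientGroup.eq_one_iff, QuotientGroup.mk_pow, show ((r : G) : G ⧸ L) = (c : G ⧸ L) from hrc,
          ← SubmonoidClass.coe_pow, ← hc, pow_orderOf_eq_one]; rfl
      have hcommrk : Φ (k : G) * Φ r = Φ r * Φ (k : G) := by
        have hCn : (Subgroup.centralizer (Kb : Set (G ⧸ L))).Normal := by
          haveI : Kb.Normal := hKb ▸ Subgroup.Normal.map hKn _ (QuotientGroup.mk'_surjective _)
          infer_instance
        let N : Subgroup G := (Subgroup.centralizer (Kb : Set (G ⧸ L))).comap (QuotientGroup.mk' L)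
        haveI : N.Normal := hCn.comap _
        have hbN : b ∈ N := by
          intro z hz
          rw [hKb] at hz
          obtain ⟨u, hu, rfl⟩ := hz
          rw [← commutatorElement_eq_one_iff_mul_comm, ← map_commutatorElement, QuotientGroup.mk'_apply, QuotientGroup.eq_one_iff]
          exact hcentr K hKn (hKb ▸ hK5 ▸ dvd_rfl) u hu
        have h1 := I.le_of_normal N hbN hr ((QuotientGroup.mk' L) (k : G)) (hKb ▸ ⟨(k : G), k.2, rfl⟩)
        rw [← commutatorElement_eq_one_iff_mul_comm, ← map_commutatorElement, QuotientGroup.mk'_apply, QuotientGroup.eq_one_iff] at h1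
        have h2 := hkerL _ h1
        rwa [map_commutatorElement, commutatorElement_eq_one_iff_mul_comm] at h2
      obtain ⟨F, hF, a, ham, hFa, hmod⟩ := hfix 5 (k : G) (by rw [← map_pow, ← hk', pow_orderOf_eq_one, map_one]) hk1
      obtain ⟨hm4', ha0⟩ := five_pow m hm4 a (by omega) hmod ham
      obtain ⟨F', hF', a', ham', hF'a, hmod'⟩ := hfix 2 r hr2 hr1
      have ha' : a' ≠ 0 := by
        intro h0
        rw [h0, hm4'] at hmod'
        norm_num at hmod'
      have hinv : ∀ u ∈ F', Φ (k : G) u ∈ F' := fun u hu => by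
        rw [hF'] at hu ⊢
        rw [← MulAut.mul_apply, ← hcommrk, MulAut.mul_apply, hu]
      let res : F' →* F' := ((Φ (k : G)).toMonoidHom.comp F'.subtype).codRestrict F' fun u => hinv u u.2
      have hres : Function.Bijective res := Finite.injective_iff_bijective.1 fun u w h =>
        Subtype.ext ((Φ (k : G)).injective (congrArg Subtype.val h))
      let φ' : MulAut F' := MulEquiv.ofBijective res hres
      have hpow : ∀ (i : ℕ) (u : F'), (((φ' ^ i) u : F') : L ⧸ Zl) = (Φ (k : G) ^ i) (u : L ⧸ Zl) := by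
        intro i
        induction i with
        | zero => intro u; rfl
        | succ i ih =>
          intro u
          rw [pow_succ', pow_succ', MulAut.mul_apply, MulAut.mul_apply, ← ih]
          rfl
      obtain ⟨F'', hF'', hmod''⟩ := fixed_mod 5 φ' (MulEquiv.ext fun u => Subtype.ext (by
        rw [hpow, ← map_pow, ← hk', pow_orderOf_eq_one, map_one]; rfl))
      have h1 : F'' = ⊥ := eq_bot_iff.2 fun u hu => by
        rw [mem_bot]
        apply Subtype.ext
        have huF : (u : L ⧸ Zl) ∈ F := (hF _).2 (congrArg Subtype.val ((hF'' u).1 hu))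
        have : F = ⊥ := card_eq_one.1 (by rw [hFa, ha0, pow_zero])
        rw [this, mem_bot] at huF
        exact huF
      rw [h1, card_bot, hF'a] at hmod''
      have key : ∀ a < 4, a ≠ 0 → 1 % 5 ≠ 2 ^ a % 5 := by decide
      exact key a' (by omega) ha' hmod''
    · refine hno (I.gen.trans ((closure_le L).2 ?_))
      rintro _ ⟨u, hu, rfl⟩
      exact hcentr R hRn (hcard5 R le_rfl h2R) u hu
  -- the four-group gives an abelian normal subgroup
  let D : Subgroup G := closure (Set.range (qs b q)) ⊔ Zs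
  have hqR : ∀ i, qs b q i ∈ R := fun i => hRn.conj_mem q I.q_mem _
  have hDR : D ≤ R := sup_le ((closure_le R).2 (by rintro _ ⟨i, rfl⟩; exact hqR i)) hZR
  have hDn : D.Normal := by
    have hb : b ∈ normalizer (D : Set G) := by
      refine mem_normalizer_fintype fun z hz => ?_
      have hle : D ≤ D.comap (MulAut.conj b).toMonoidHom := by
        refine sup_le ((closure_le _).2 ?_) ?_
        · rintro _ ⟨i, rfl⟩
          show b * qs b q i * b⁻¹ ∈ D
          rw [I.setting.qs_shift]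
          exact mem_sup_left (subset_closure ⟨_, rfl⟩)
        · intro w hw
          show b * w * b⁻¹ ∈ D
          rw [← (hZc w hw b).eq, mul_inv_cancel_right]
          exact mem_sup_right hw
      exact hle hz
    have hR : R ≤ normalizer (D : Set G) := by
      intro r hr
      refine mem_normalizer_fintype fun z hz => ?_
      rw [show r * z * r⁻¹ = ⁅r, z⁆ * z by rw [commutatorElement_def, inv_mul_cancel_right]]
      exact D.mul_mem (mem_sup_right (hLL r (hRL hr) z (hRL (hDR hz)))) hz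
    exact normalizer_eq_top_iff.1 (I.top _ hR hb)
  have hDc : ∀ u ∈ D, ∀ w ∈ D, Commute u w := by
    have hall : ∀ u ∈ D, ∀ i, Commute u (qs b q i) := by
      intro u hu i
      have hle : D ≤ centralizer {qs b q i} := by
        refine sup_le ((closure_le _).2 ?_) fun w hw => mem_centralizer_singleton_iff.2 (hZc w hw _).eq
        rintro _ ⟨j, rfl⟩
        exact mem_centralizer_singleton_iff.2 (I.setting.qs_comm j i).eq
      exact mem_centralizer_singleton_iff.1 (hle hu)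
    intro u hu w hw
    have hle : D ≤ centralizer {u} := by
      refine sup_le ((closure_le _).2 ?_) fun z hz => mem_centralizer_singleton_iff.2 (hZc z hz _).eq
      rintro _ ⟨j, rfl⟩
      exact mem_centralizer_singleton_iff.2 (hall u hu j).eq.symm
    exact (mem_centralizer_singleton_iff.1 (hle hw)).symm
  exact hqnot (H0 D hDn hDR hDc (mem_sup_left (subset_closure ⟨0, qs_zero b q⟩)))

end Cfsg.Agent.CubicBlock
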