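import Mathlib

/-!
# Simultaneous eigenvectors of commuting involutions over the field with three elements
-/

set_option autoImplicit false
set_option maxHeartbeats 1600000

namespace Cfsg.Agent.CubicBlock

variable {E : Type*} [AddCommGroup E] [Module (ZMod 3) E] {X : Type*}

/-- The sign attached to a bit. -/
def sgn (b : Bool) : ZMod 3 := if b then -1 else 1

theorem sgn_ne_zero : ∀ b, sgn b ≠ 0 := by decide
theorem sgn_sq : ∀ b, sgn b * sgn b = 1 := by decide
theorem sgn_xor : ∀ a b, sgn a * sgn b = sgn (xor a b) := by decide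
theorem sgn_inj : ∀ a b, sgn a = sgn b → a = b := by decide
theorem half_two : (2 : ZMod 3) * 2 = 1 := by decide
theorem zmod_three : ∀ c : ZMod 3, c = 0 ∨ ∃ b, c = sgn b := by decide

/-- The simultaneous eigenspace of a sign pattern. -/
def comp (t : X → Module.End (ZMod 3) E) (χ : X → Bool) : Submodule (ZMod 3) E where
  carrier := {v | ∀ x, t x v = sgn (χ x) • v}
  add_mem' {u w} hu hw x := by rw [map_add, hu x, hw x, smul_add]
  zero_mem' x := by rw [map_zero, smul_zero]
  smul_mem' c v hv x := by rw [map_smul, hv x, smul_comm]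

theorem mem_comp {t : X → Module.End (ZMod 3) E} {χ : X → Bool} {v : E} :
    v ∈ comp t χ ↔ ∀ x, t x v = sgn (χ x) • v := Iff.rfl

/-- The projection along a list. -/
def projList (t : X → Module.End (ZMod 3) E) (χ : X → Bool) : List X → Module.End (ZMod 3) E
  | [] => 1
  | x :: l => ((2 : ZMod 3) • (1 + sgn (χ x) • t x)) * projList t χ l

/-- The projection to the eigenspace of a sign pattern. -/
noncomputable def proj [Fintype X] (t : X → Module.End (ZMod 3) E) (χ : X → Bool) : Module.End (ZMod 3) E :=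
  projList t χ Finset.univ.toList

theorem projList_apply (t : X → Module.End (ZMod 3) E) (χ ψ : X → Bool) {v : E} (hv : v ∈ comp t ψ)
    (l : List X) : projList t χ l v = (if ∀ x ∈ l, χ x = ψ x then v else 0) := by
  induction l with
  | nil => simp [projList]
  | cons x l ih =>
    have key : ∀ a b : Bool, (2 : ZMod 3) * (1 + sgn a * sgn b) = if a = b then 1 else 0 := by decide
    rw [projList, Module.End.mul_apply, ih]
    by_cases hl : ∀ y ∈ l, χ y = ψ y
    · rw [if_pos hl, LinearMap.smul_apply, LinearMap.add_apply, Module.End.one_apply, LinearMap.smul_apply, hv x,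
        smul_smul]
      conv_lhs => rw [show v + (sgn (χ x) * sgn (ψ x)) • v = (1 + sgn (χ x) * sgn (ψ x)) • v by rw [add_smul, one_smul],
        smul_smul, key]
      by_cases hx : χ x = ψ x
      · rw [if_pos hx, one_smul, if_pos (by simpa [hx] using hl)]
      · rw [if_neg hx, zero_smul, if_neg (fun h => hx (h x (List.mem_cons_self ..)))]
    · rw [if_neg hl, map_zero, if_neg (fun h => hl fun y hy => h y (List.mem_cons_of_mem _ hy))]

theorem proj_apply [Fintype X] [DecidableEq X] (t : X → Module.End (ZMod 3) E) (χ ψ : X → Bool) {v : E}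
    (hv : v ∈ comp t ψ) : proj t χ v = if χ = ψ then v else 0 := by
  rw [proj, projList_apply t χ ψ hv]
  by_cases h : χ = ψ
  · simp [h]
  · rw [if_neg h, if_neg]
    exact fun hall => h (funext fun x => hall x (Finset.mem_toList.2 (Finset.mem_univ x)))

theorem proj_self [Fintype X] [DecidableEq X] (t : X → Module.End (ZMod 3) E) (χ : X → Bool) {v : E}
    (hv : v ∈ comp t χ) : proj t χ v = v := by rw [proj_apply t χ χ hv, if_pos rfl]

theorem proj_ne [Fintype X] [DecidableEq X] (t : X → Module.End (ZMod 3) E) {χ ψ : X → Bool} (h : χ ≠ ψ) {v : E}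
    (hv : v ∈ comp t ψ) : proj t χ v = 0 := by rw [proj_apply t χ ψ hv, if_neg h]

theorem eq_of_mem_comp [Fintype X] [DecidableEq X] {t : X → Module.End (ZMod 3) E} {χ ψ : X → Bool} {v : E}
    (h1 : v ∈ comp t χ) (h2 : v ∈ comp t ψ) (hv : v ≠ 0) : χ = ψ := by
  by_contra h
  exact hv ((proj_self t χ h1).symm.trans (proj_ne t h h2))

theorem proj_mem [Fintype X] (t : X → Module.End (ZMod 3) E) (χ : X → Bool) (N : Submodule (ZMod 3) E)
    (hN : ∀ x, ∀ v ∈ N, t x v ∈ N) {v : E} (hv : v ∈ N) : proj t χ v ∈ N := by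
  have : ∀ l, projList t χ l v ∈ N := by
    intro l
    induction l with
    | nil => exact hv
    | cons x l ih =>
      rw [projList, Module.End.mul_apply, LinearMap.smul_apply, LinearMap.add_apply, Module.End.one_apply,
        LinearMap.smul_apply]
      exact N.smul_mem _ (N.add_mem ih (N.smul_mem _ (hN x _ ih)))
  exact this _

theorem span_eigen [Finite X] (t : X → Module.End (ZMod 3) E) (hsq : ∀ x v, t x (t x v) = v)
    (hcomm : ∀ x y v, t x (t y v) = t y (t x v)) :
    Submodule.span (ZMod 3) {v : E | ∃ χ, v ∈ comp t χ} = ⊤ := by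
  classical
  haveI := Fintype.ofFinite X
  have key : ∀ l : List X, Submodule.span (ZMod 3) {v : E | ∀ x ∈ l, ∃ b, t x v = sgn b • v} = ⊤ := by
    intro l
    induction l with
    | nil => simp
    | cons x l ih =>
      rw [eq_top_iff, ← ih, Submodule.span_le]
      intro w hw
      have hmem : ∀ b : Bool, w + sgn b • t x w ∈ Submodule.span (ZMod 3)
          {v : E | ∀ y ∈ x :: l, ∃ b, t y v = sgn b • v} := by
        intro b
        refine Submodule.subset_span fun y hy => ?_
        rcases List.mem_cons.1 hy with rfl | hy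
        · refine ⟨b, ?_⟩
          rw [map_add, map_smul, hsq, smul_add, smul_smul, sgn_sq, one_smul]
          exact add_comm _ _
        · obtain ⟨c, hc⟩ := hw y hy
          refine ⟨c, ?_⟩
          rw [map_add, map_smul, hcomm y x, hc, map_smul, smul_add, smul_smul, smul_smul, mul_comm]
      rw [show w = (2 : ZMod 3) • ((w + sgn false • t x w) + (w + sgn true • t x w)) by
        rw [show w + sgn false • t x w + (w + sgn true • t x w) = w + w by
          simp only [sgn, Bool.false_eq_true, if_false, if_true, one_smul, neg_smul]; abel,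
          ← two_smul (ZMod 3) w, smul_smul, half_two, one_smul]]
      exact Submodule.smul_mem _ _ (Submodule.add_mem _ (hmem false) (hmem true))
  rw [eq_top_iff, ← key Finset.univ.toList]
  refine Submodule.span_mono fun v hv => ?_
  choose b hb using fun x => hv x (Finset.mem_toList.2 (Finset.mem_univ x))
  exact ⟨b, hb⟩

theorem eq_zero_of_proj [Fintype X] [DecidableEq X] (t : X → Module.End (ZMod 3) E) (hsq : ∀ x v, t x (t x v) = v)
    (hcomm : ∀ x y v, t x (t y v) = t y (t x v)) {v : E} (h : ∀ χ, proj t χ v = 0) : v = 0 := by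
  have hsum : (∑ χ : X → Bool, proj t χ) = (1 : Module.End (ZMod 3) E) := by
    refine LinearMap.ext_on (span_eigen t hsq hcomm) ?_
    rintro w ⟨ψ, hw⟩
    rw [LinearMap.sum_apply, Finset.sum_eq_single ψ (fun χ _ hne => proj_ne t hne hw)
      (fun hn => absurd (Finset.mem_univ ψ) hn), proj_self t ψ hw]
    rfl
  calc v = (∑ χ : X → Bool, proj t χ) v := by rw [hsum]; rfl
    _ = 0 := by rw [LinearMap.sum_apply]; exact Finset.sum_eq_zero fun χ _ => h χ

theorem map_comp {t : X → Module.End (ZMod 3) E} (g : Module.End (ZMod 3) E) (π : Equiv.Perm X)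
    (hg : ∀ x v, g (t x v) = t (π x) (g v)) {χ : X → Bool} {v : E} (hv : v ∈ comp t χ) :
    g v ∈ comp t (χ ∘ π.symm) := by
  intro y
  have h := hg (π.symm y) v
  rw [hv, map_smul, π.apply_symm_apply] at h
  exact h.symm

variable [Finite E]

theorem card_comp_le [Finite X] (t : X → Module.End (ZMod 3) E) (β : Module.End (ZMod 3) E)
    (hinj : Function.Injective β) (hrk : Nat.card (LinearMap.range (β - 1)) ≤ 9)
    {χ₀ χ₁ χ₂ : X → Bool} (h01 : χ₀ ≠ χ₁) (h02 : χ₀ ≠ χ₂) (h12 : χ₁ ≠ χ₂)
    (hm0 : ∀ v ∈ comp t χ₀, β v ∈ comp t χ₁) (hm1 : ∀ v ∈ comp t χ₁, β v ∈ comp t χ₂) :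
    Nat.card (comp t χ₀) ≤ 3 := by
  classical
  haveI := Fintype.ofFinite X
  let f : comp t χ₀ × comp t χ₀ → LinearMap.range (β - 1) := fun uv =>
    ⟨(β - 1) ((uv.1 : E) + β (uv.2 : E)), ⟨_, rfl⟩⟩
  have hf : Function.Injective f := by
    intro a b h
    have h' : (β - 1) ((a.1 : E) + β (a.2 : E)) = (β - 1) ((b.1 : E) + β (b.2 : E)) := congrArg Subtype.val h
    have e : ∀ c : comp t χ₀ × comp t χ₀, proj t χ₀ ((β - 1) ((c.1 : E) + β (c.2 : E))) = -(c.1 : E) ∧
        proj t χ₂ ((β - 1) ((c.1 : E) + β (c.2 : E))) = β (β (c.2 : E)) := by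
      intro c
      rw [LinearMap.sub_apply, Module.End.one_apply, map_add]
      refine ⟨?_, ?_⟩
      · rw [map_sub, map_add, map_add, proj_ne t h01 (hm0 _ c.1.2), proj_ne t h02 (hm1 _ (hm0 _ c.2.2)),
          proj_self t _ c.1.2, proj_ne t h01 (hm0 _ c.2.2)]
        abel
      · rw [map_sub, map_add, map_add, proj_ne t h12.symm (hm0 _ c.1.2), proj_self t _ (hm1 _ (hm0 _ c.2.2)),
          proj_ne t h02.symm c.1.2, proj_ne t h12.symm (hm0 _ c.2.2)]
        abel
    have e1 := congrArg (proj t χ₀) h'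
    have e2 := congrArg (proj t χ₂) h'
    rw [(e a).1, (e b).1] at e1
    rw [(e a).2, (e b).2] at e2
    exact Prod.ext (Subtype.ext (neg_injective e1)) (Subtype.ext (hinj (hinj e2)))
  have := Nat.card_le_card_of_injective f hf
  rw [Nat.card_prod] at this
  nlinarith

theorem range_eq [Finite X] (t : X → Module.End (ZMod 3) E) (β : Module.End (ZMod 3) E)
    (hinj : Function.Injective β) (hrk : Nat.card (LinearMap.range (β - 1)) ≤ 9)
    {χ₀ χ₁ χ₂ : X → Bool} (h01 : χ₀ ≠ χ₁) (h02 : χ₀ ≠ χ₂) (h12 : χ₁ ≠ χ₂)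
    (hm0 : ∀ v ∈ comp t χ₀, β v ∈ comp t χ₁) (hm1 : ∀ v ∈ comp t χ₁, β v ∈ comp t χ₂)
    (hne : comp t χ₀ ≠ ⊥) {ψ : X → Bool} (hψ0 : ψ ≠ χ₀) (hψ1 : ψ ≠ χ₁) (hψ2 : ψ ≠ χ₂) {w : E}
    (hw : w ∈ comp t ψ) {ψ' : X → Bool} (hw' : β w ∈ comp t ψ') (hψ'0 : ψ' ≠ χ₀) (hψ'2 : ψ' ≠ χ₂) :
    β w = w := by
  classical
  haveI := Fintype.ofFinite X
  by_contra hne'
  obtain ⟨e, he, he0⟩ := Submodule.exists_mem_ne_zero_of_ne_bot hne
  let f : ZMod 3 × ZMod 3 × ZMod 3 → LinearMap.range (β - 1) := fun c =>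
    ⟨(β - 1) (c.1 • e + c.2.1 • β e + c.2.2 • w), ⟨_, rfl⟩⟩
  have hd : β w - w ≠ 0 := sub_ne_zero.2 hne'
  have hval : ∀ c : ZMod 3 × ZMod 3 × ZMod 3,
      (β - 1) (c.1 • e + c.2.1 • β e + c.2.2 • w) =
        c.1 • (β e - e) + c.2.1 • (β (β e) - β e) + c.2.2 • (β w - w) := by
    intro c
    rw [LinearMap.sub_apply, Module.End.one_apply, map_add, map_add, map_smul, map_smul, map_smul, smul_sub,
      smul_sub, smul_sub]
    abel
  have hf : Function.Injective f := by
    intro a b h
    have h' : (β - 1) (a.1 • e + a.2.1 • β e + a.2.2 • w) = (β - 1) (b.1 • e + b.2.1 • β e + b.2.2 • w) :=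
      congrArg Subtype.val h
    rw [hval, hval] at h'
    have p0 : proj t χ₀ (β w - w) = 0 := by
      rw [map_sub, proj_ne t hψ0.symm hw, proj_ne t hψ'0.symm hw', sub_zero]
    have p2 : proj t χ₂ (β w - w) = 0 := by
      rw [map_sub, proj_ne t hψ2.symm hw, proj_ne t hψ'2.symm hw', sub_zero]
    have e1 := congrArg (proj t χ₀) h'
    simp only [map_add, map_smul, map_sub, p0, smul_zero, add_zero, proj_self t _ he, proj_ne t h01 (hm0 _ he),
      proj_ne t h02 (hm1 _ (hm0 _ he)), zero_sub, sub_zero, smul_neg, neg_inj, map_sub] at e1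
    have e2 := congrArg (proj t χ₂) h'
    simp only [map_add, map_smul, map_sub, p2, smul_zero, add_zero, zero_add, proj_ne t h02.symm he,
      proj_ne t h12.symm (hm0 _ he), proj_self t _ (hm1 _ (hm0 _ he)), sub_zero] at e2
    have a1 : a.1 = b.1 := smul_left_injective _ he0 e1
    have hb0 : β (β e) ≠ 0 := fun h0 => he0 (hinj (hinj (by rw [h0, map_zero, map_zero])))
    have a2 : a.2.1 = b.2.1 := smul_left_injective _ hb0 e2
    rw [a1, a2, add_left_cancel_iff] at h'
    exact Prod.ext a1 (Prod.ext a2 (smul_left_injective _ hd h'))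
  have := Nat.card_le_card_of_injective f hf
  rw [Nat.card_prod, Nat.card_prod, Nat.card_zmod] at this
  omega

/-- Linear automorphisms of a space of at most nine vectors. -/
theorem eq_one_of_small {U : Type*} [AddCommGroup U] [Module (ZMod 3) U] [Finite U] (hU : Nat.card U ≤ 9)
    (g : U ≃ₗ[ZMod 3] U) {m : ℕ} (hm : g ^ m = 1) (hcop : m.Coprime 6) : g = 1 := by
  classical
  haveI : Module.Finite (ZMod 3) U := Module.Finite.of_finite
  let e := (Module.finBasis (ZMod 3) U).equivFun
  have hd : Module.finrank (ZMod 3) U ≤ 2 := by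
    by_contra hd
    have := Module.natCard_eq_pow_finrank (K := ZMod 3) (V := U)
    rw [Nat.card_zmod] at this
    have h27 : 3 ^ 3 ≤ 3 ^ Module.finrank (ZMod 3) U := Nat.pow_le_pow_right (by norm_num) (by omega)
    omega
  let M : (U ≃ₗ[ZMod 3] U) ≃* GL (Fin (Module.finrank (ZMod 3) U)) (ZMod 3) :=
    ((LinearMap.GeneralLinearGroup.generalLinearEquiv (ZMod 3) U).symm.trans
      (LinearMap.GeneralLinearGroup.congrLinearEquiv e)).trans
      Matrix.GeneralLinearGroup.toLin.symm
  have hcard : orderOf g ∣ 48 := by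
    rw [← orderOf_injective M.toMonoidHom M.injective g]
    refine (orderOf_dvd_natCard _).trans ?_
    rw [Matrix.card_GL_field]
    generalize Module.finrank (ZMod 3) U = d at hd
    interval_cases d <;> simp [Fin.prod_univ_succ]
  have h1 : orderOf g ∣ Nat.gcd m 48 := Nat.dvd_gcd (orderOf_dvd_of_pow_eq_one hm) hcard
  have h2 : Nat.Coprime m 48 := by
    have h2 : m.Coprime 2 := hcop.coprime_dvd_right (by norm_num)
    have h3 : m.Coprime 3 := hcop.coprime_dvd_right (by norm_num)
    exact (h2.pow_right 4).mul_right h3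
  rw [h2.gcd_eq_one, Nat.dvd_one, orderOf_eq_one_iff] at h1
  exact h1

end Cfsg.Agent.CubicBlock
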