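import Cfsg.Agent.Lib.CubicBlock.Core
import Cfsg.Agent.Lib.Basics.Cores
import Cfsg.Agent.Lib.Basics.CoprimeAction
import Cfsg.Prelude.Def_Solvable

/-!
# From the solvable group to the irreducible configuration
-/

set_option autoImplicit false
set_option maxHeartbeats 1600000

namespace Cfsg.Agent.CubicBlock

open Subgroup
open scoped commutatorElement

theorem shape_transfer {G : Type*} [Group G] [Finite G] {H R : Subgroup G} (hRH : R ≤ H)
    (h : Shape (R.subgroupOf H)) : Shape R := by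
  haveI := Fact.mk Nat.prime_two
  let e : R.subgroupOf H ≃* R := subgroupOfEquivOfLe hRH
  have hcard := Nat.card_congr e.toEquiv
  rcases h with ⟨⟨hc, h2⟩, h4⟩ | ⟨⟨⟨hp, hF, hC⟩, hZ⟩, h32, A, hA, ⟨hAc, hA2⟩, hA8⟩
  · left
    refine ⟨⟨⟨⟨fun u w => ?_⟩⟩, fun u hu => ?_⟩, by rw [← hcard, h4]⟩
    · obtain ⟨u, rfl⟩ := e.surjective u
      obtain ⟨w, rfl⟩ := e.surjective w
      rw [← map_mul, ← map_mul]
      exact congrArg e (hc.is_comm.comm u w)
    · have := h2 ⟨u, hRH hu⟩ (mem_subgroupOf.2 hu)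
      exact congrArg Subtype.val this
  · right
    refine ⟨extraspecial_of (by rw [← hcard, h32]) ?_ ?_ ?_, by rw [← hcard, h32],
      A.map H.subtype, ?_, ⟨⟨⟨?_⟩⟩, ?_⟩, ?_⟩
    · rw [← Nat.card_congr (Subgroup.centerCongr e).toEquiv, hZ]
    · intro u
      obtain ⟨u, rfl⟩ := e.surjective u
      rw [← map_mul, mem_center_iff]
      intro w
      obtain ⟨w, rfl⟩ := e.surjective w
      have hu : u * u ∈ center (R.subgroupOf H) := hF ▸ pow_two u ▸ (Cfsg.Agent.S0012.result 2 hp).2 u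
      rw [← map_mul e w, ← map_mul e (u * u), mem_center_iff.1 hu w]
    · by_contra hno
      push_neg at hno
      have : commutator (R.subgroupOf H) = ⊥ := by
        rw [_root_.commutator_def, eq_bot_iff, commutator_le]
        intro u _ w _
        rw [mem_bot, commutatorElement_eq_one_iff_mul_comm]
        apply e.injective
        rw [map_mul, map_mul, hno]
      rw [hC] at this
      rw [this, card_bot] at hZ
      omega
    · rintro _ ⟨u, hu, rfl⟩
      exact mem_subgroupOf.1 (hA hu)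
    · rintro ⟨_, u, hu, rfl⟩ ⟨_, w, hw, rfl⟩
      apply Subtype.ext
      show H.subtype u * H.subtype w = H.subtype w * H.subtype u
      rw [← map_mul, ← map_mul]
      exact congrArg H.subtype (congrArg Subtype.val (hAc.is_comm.comm ⟨u, hu⟩ ⟨w, hw⟩))
    · rintro _ ⟨u, hu, rfl⟩
      rw [← map_pow, hA2 u hu, map_one]
    · rw [card_map_of_injective H.subtype_injective, hA8]

theorem coprime_nil {n : ℕ} (h : (3 : ℕ).Coprime n) : (n : ZMod 3) ≠ 0 := by
  intro h0
  rw [ZMod.natCast_eq_zero_iff] at h0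
  have := Nat.dvd_gcd dvd_rfl h0
  rw [h.gcd_eq_one] at this
  norm_num at this

theorem main {S : Type*} [Group S] [Finite S] [Group.IsSolvable S] {E : Type*} [AddCommGroup E]
    [Module (ZMod 3) E] [Finite E] (ρ : Representation (ZMod 3) S E) (hfaith : Function.Injective ρ)
    (B : Subgroup S) (hB : Nat.card B = 3) (b : S) (hb : zpowers b = B)
    (hrank : Nat.card (LinearMap.range (ρ b - 1)) ≤ 9)
    (Q : Subgroup S) (hQ : Cfsg.IsElementaryAbelian 2 Q) (hQ4 : Nat.card Q = 4)
    (hBQ : B ≤ normalizer (Q : Set S)) (hBQ' : ¬ B ≤ centralizer (Q : Set S))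
    (P : Sylow 3 S) (hBZ : (center (P : Subgroup S)).map (P : Subgroup S).subtype = B) :
    Shape ⁅Cfsg.pPrimeCore 3 S, B⁆ ∧
    ∃ F₀ F₁ : Submodule (ZMod 3) E, F₀ ⊓ F₁ = ⊥ ∧ F₀ ⊔ F₁ = ⊤ ∧
      (∀ r ∈ ⁅Cfsg.pPrimeCore 3 S, B⁆, ∀ v ∈ F₁, ρ r v = v) ∧
      (∀ r ∈ ⁅Cfsg.pPrimeCore 3 S, B⁆ ⊔ B, ∀ v ∈ F₀, ρ r v ∈ F₀) ∧
      (∀ r ∈ ⁅Cfsg.pPrimeCore 3 S, B⁆ ⊔ B, (∀ v ∈ F₀, ρ r v = v) → r = 1) ∧
      (∀ N : Submodule (ZMod 3) E, N ≤ F₀ → (∀ r ∈ ⁅Cfsg.pPrimeCore 3 S, B⁆ ⊔ B, ∀ v ∈ N, ρ r v ∈ N) → N = ⊥ ∨ N = F₀) := by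
  classical
  haveI := Fact.mk Nat.prime_three
  obtain ⟨M, hMdef⟩ : ∃ M, M = Cfsg.pPrimeCore 3 S := ⟨_, rfl⟩
  rw [← hMdef]
  obtain ⟨hMn, hMc⟩ : M.Normal ∧ (Nat.card M).Coprime 3 := hMdef ▸ Cfsg.Agent.LocalEvenB.pPrimeCore_spec 3
  haveI := hMn
  have hbB : b ∈ B := hb ▸ mem_zpowers b
  have hb3 : b ^ 3 = 1 := by
    have := pow_card_eq_one' (x := (⟨b, hbB⟩ : B))
    rw [hB] at this
    exact congrArg Subtype.val this
  -- the four-group
  obtain ⟨q, hq, hne⟩ : ∃ q ∈ Q, b * q * b⁻¹ ≠ q := by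
    by_contra hall
    push_neg at hall
    apply hBQ'
    rw [← hb, zpowers_le]
    exact fun u hu => (mul_inv_eq_iff_eq_mul.1 (hall u hu)).symm
  have hQsq : ∀ u ∈ Q, u * u = 1 := fun u hu => by rw [← pow_two]; exact hQ.2 u hu
  have hconjQ : ∀ u ∈ Q, b * u * b⁻¹ ∈ Q := fun u hu => (mem_normalizer_iff.1 (hBQ hbB) u).1 hu
  have hq1 : b * q * b⁻¹ ∈ Q := hconjQ q hq
  have hq2 : b * b * q * (b * b)⁻¹ ∈ Q := by
    have := hconjQ _ hq1
    rwa [show b * (b * q * b⁻¹) * b⁻¹ = b * b * q * (b * b)⁻¹ by group] at this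
  have hcomm : ∀ u ∈ Q, ∀ w ∈ Q, u * w = w * u := fun u hu w hw =>
    congrArg Subtype.val (hQ.1.is_comm.comm ⟨u, hu⟩ ⟨w, hw⟩)
  have hb3' : b * b * b = 1 := by rw [← pow_two, ← pow_succ, hb3]
  have hprod : q * (b * q * b⁻¹) = b * b * q * (b * b)⁻¹ := by
    have hne02 : b * b * q * (b * b)⁻¹ ≠ q := fun h => hne (by
      calc b * q * b⁻¹ = b * (b * b * q * (b * b)⁻¹) * b⁻¹ := by rw [h]
        _ = (b * b * b) * q * (b * b * b)⁻¹ := by group
        _ = q := by rw [hb3']; group)
    have hne12 : b * b * q * (b * b)⁻¹ ≠ b * q * b⁻¹ := fun h => hne (by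
      rw [show b * b * q * (b * b)⁻¹ = b * (b * q * b⁻¹) * b⁻¹ by group] at h
      exact mul_left_cancel (mul_right_cancel h))
    have hq0 : q ≠ 1 := fun h => hne (by rw [h]; group)
    by_contra hne'
    let f : Fin 5 → Q := ![⟨1, Q.one_mem⟩, ⟨q, hq⟩, ⟨_, hq1⟩, ⟨_, hq2⟩, ⟨_, Q.mul_mem hq hq1⟩]
    have hf : Function.Injective f := by
      have e1 : b * q * b⁻¹ ≠ 1 := fun h => hq0 (by
        rw [show q = b⁻¹ * (b * q * b⁻¹) * b by group, h]; group)
      have e2 : b * b * q * (b * b)⁻¹ ≠ 1 := fun h => hq0 (by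
        rw [show q = (b * b)⁻¹ * (b * b * q * (b * b)⁻¹) * (b * b) by group, h]; group)
      have e3 : q * (b * q * b⁻¹) ≠ 1 := fun h => hne (by
        rw [eq_inv_of_mul_eq_one_right h, inv_eq_of_mul_eq_one_right (hQsq q hq)])
      have e4 : q * (b * q * b⁻¹) ≠ q := fun h => e1 (mul_eq_left.1 h)
      have e5 : q * (b * q * b⁻¹) ≠ b * q * b⁻¹ := fun h => hq0 (mul_eq_right.1 h)
      intro i j h
      have h' := congrArg Subtype.val h
      fin_cases i <;> fin_cases j
      all_goals first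
        | rfl
        | exact absurd h' hq0.symm | exact absurd h' hq0 | exact absurd h' e1.symm | exact absurd h' e1
        | exact absurd h' e2.symm | exact absurd h' e2 | exact absurd h' e3.symm | exact absurd h' e3
        | exact absurd h' hne.symm | exact absurd h' hne | exact absurd h' hne02.symm | exact absurd h' hne02
        | exact absurd h' hne12.symm | exact absurd h' hne12 | exact absurd h' e4.symm | exact absurd h' e4
        | exact absurd h' e5.symm | exact absurd h' e5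
        | exact absurd h' hne' | exact absurd h'.symm hne'
    have := Nat.card_le_card_of_injective f hf
    rw [hQ4, Nat.card_eq_fintype_card, Fintype.card_fin] at this
    omega
  have hcomm01 : q * (b * q * b⁻¹) = b * q * b⁻¹ * q := hcomm q hq _ hq1
  have hST : Setting ρ b q := ⟨hfaith, hb3, hrank, hQsq q hq, hcomm01, hprod, hne⟩
  have hqb : ⁅q, b⁆ = b * b * q * (b * b)⁻¹ := by
    rw [commutatorElement_def, inv_eq_of_mul_eq_one_right (hQsq q hq), mul_assoc q b q, mul_assoc, hprod]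
  -- the four-group lies in the core
  have hqM : b * b * q * (b * b)⁻¹ ∈ M := by
    obtain ⟨T, hT⟩ : ∃ T, T = Cfsg.pCore 3 (S ⧸ M) := ⟨_, rfl⟩
    have hO : Cfsg.pPrimeCore 3 (S ⧸ M) = ⊥ := by
      subst hMdef
      exact Cfsg.Agent.Basics.pPrimeCore_quotient_eq_bot 3
    have hTP : T ≤ (P : Subgroup S).map (QuotientGroup.mk' M) :=
      hT ▸ Cfsg.Agent.Basics.pCore_le_sylow 3 (P.mapSurjective (QuotientGroup.mk'_surjective M))
    obtain ⟨hTn, hTp⟩ : T.Normal ∧ IsPGroup 3 T := hT ▸ Cfsg.Agent.LocalEvenB.pCore_spec 3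
    have hbT : (QuotientGroup.mk' M) b ∈ T := by
      rw [hT]
      refine Cfsg.Agent.Basics.centralizer_pCore_le hO fun t ht => ?_
      rw [← hT] at ht
      obtain ⟨u, hu, rfl⟩ := hTP ht
      obtain ⟨z, hz, hzb⟩ : b ∈ (center (P : Subgroup S)).map (P : Subgroup S).subtype := hBZ.symm ▸ hbB
      rw [← map_mul, ← map_mul, ← hzb]
      exact congrArg (QuotientGroup.mk' M) (congrArg Subtype.val (mem_center_iff.1 hz ⟨u, hu⟩))
    rw [← hqb, ← QuotientGroup.eq_one_iff]
    have hmem : (QuotientGroup.mk' M) ⁅q, b⁆ ∈ T := by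
      rw [map_commutatorElement, commutatorElement_def]
      exact T.mul_mem (hTn.conj_mem _ hbT _) (T.inv_mem hbT)
    obtain ⟨k, hk⟩ := hTp ⟨_, hmem⟩
    have h1 : (QuotientGroup.mk' M) ⁅q, b⁆ ^ 3 ^ k = 1 := congrArg Subtype.val hk
    have h2 : (QuotientGroup.mk' M) ⁅q, b⁆ ^ 2 = 1 := by rw [← map_pow, hqb, pow_two, hQsq _ hq2, map_one]
    have := pow_gcd_eq_one.2 ⟨h1, h2⟩
    rwa [(Nat.Coprime.pow_left k (by norm_num : Nat.Coprime 3 2)).gcd_eq_one, pow_one] at this
  have hqsM : q ∈ M := by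
    have := hMn.conj_mem _ hqM b
    rwa [show b * (b * b * q * (b * b)⁻¹) * b⁻¹ = (b * b * b) * q * (b * b * b)⁻¹ by group, hb3', one_mul, inv_one,
      mul_one] at this
  -- the commutator
  obtain ⟨R, hR⟩ : ∃ R, R = ⁅M, B⁆ := ⟨_, rfl⟩
  rw [← hR]
  have hBM : B ≤ normalizer (M : Set S) := by rw [normalizer_eq_top]; exact le_top
  have hcop : (Nat.card B).Coprime (Nat.card M) := by rw [hB]; exact hMc.symm
  have hRR : ⁅R, B⁆ = R := hR ▸ Cfsg.Agent.Basics.commutator_commutator_eq B M hBM hcop (Or.inr inferInstance)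
  have hBR : B ≤ normalizer (R : Set S) := Subgroup.le_normalizer_iff_commutator_le_left.2 hRR.le
  have hRM : R ≤ M := hR ▸ Subgroup.le_normalizer_iff_commutator_le_left.1 hBM
  have hconjR : ∀ u ∈ R, b * u * b⁻¹ ∈ R := fun u hu => (mem_normalizer_iff.1 (hBR hbB) u).1 hu
  have hcopR : ∀ r ∈ R, (orderOf r).Coprime 3 := fun r hr =>
    hMc.coprime_dvd_left (by rw [← Subgroup.orderOf_mk r (hRM hr)]; exact orderOf_dvd_natCard _)
  have hq2R : b * b * q * (b * b)⁻¹ ∈ R := by
    rw [← hqb, hR]; exact commutator_mem_commutator hqsM hbB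
  have hqR : q ∈ R := by
    have := hconjR _ hq2R
    rwa [show b * (b * b * q * (b * b)⁻¹) * b⁻¹ = (b * b * b) * q * (b * b * b)⁻¹ by group, hb3', one_mul, inv_one,
      mul_one] at this
  have hgen : R ≤ closure {x | ∃ r ∈ R, ⁅r, b⁆ = x} := by
    conv_lhs => rw [← hRR]
    rw [commutator_le]
    intro r hr c hc
    rw [← hb] at hc
    obtain ⟨i, -, rfl⟩ : ∃ i, i < orderOf b ∧ b ^ i = c := by
      simpa [eq_comm] using (mem_zpowers_iff_mem_range_orderOf.1 hc)
    have : ∀ i : ℕ, ∀ r ∈ R, ⁅r, b ^ i⁆ ∈ closure {x | ∃ r ∈ R, ⁅r, b⁆ = x} := by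
      intro i
      induction i with
      | zero => intro r _; rw [pow_zero, commutatorElement_one_right]; exact one_mem _
      | succ i ih =>
        intro r hr
        have e : ⁅r, b ^ (i + 1)⁆ = ⁅r, b⁆ * ⁅b * r * b⁻¹, b ^ i⁆ := by
          rw [pow_succ']
          simp only [commutatorElement_def]; group
        rw [e]
        exact mul_mem (subset_closure ⟨r, hr, rfl⟩) (ih _ (hconjR r hr))
    exact this i r hr
  -- decomposition
  haveI : Fintype R := Fintype.ofFinite R
  have hn0 : (Fintype.card R : ZMod 3) ≠ 0 := coprime_nil (by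
    rw [← Nat.card_eq_fintype_card]
    exact (hMc.coprime_dvd_left (Subgroup.card_dvd_of_le hRM)).symm)
  obtain ⟨A, hA⟩ : ∃ A : Module.End (ZMod 3) E, A = (Fintype.card R : ZMod 3)⁻¹ • ∑ r : R, ρ (r : S) := ⟨_, rfl⟩
  have hAapp : ∀ v, A v = (Fintype.card R : ZMod 3)⁻¹ • ∑ r : R, ρ (r : S) v := fun v => by
    rw [hA, LinearMap.smul_apply, LinearMap.sum_apply]
  obtain ⟨H, hH⟩ : ∃ H, H = R ⊔ B := ⟨_, rfl⟩
  rw [← hH]
  have hRH : R ≤ H := hH ▸ le_sup_left
  have hbH : b ∈ H := hH ▸ mem_sup_right hbB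
  have hHnorm : H ≤ normalizer (R : Set S) := hH ▸ sup_le le_normalizer hBR
  have hAg : ∀ g ∈ H, ∀ v, ρ g (A v) = A (ρ g v) := by
    intro g hg v
    rw [hAapp, hAapp, map_smul, map_sum]
    congr 1
    refine Fintype.sum_equiv (Equiv.ofBijective
      (fun r : R => (⟨g * r * g⁻¹, (mem_normalizer_iff.1 (hHnorm hg) r).1 r.2⟩ : R))
      (Finite.injective_iff_bijective.1 fun u w h => Subtype.ext
        (mul_left_cancel (mul_right_cancel (congrArg Subtype.val h))))) _ _ fun r => ?_
    show ρ g (ρ (r : S) v) = ρ (g * r * g⁻¹) (ρ g v)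
    rw [rho_comp, rho_comp, inv_mul_cancel_right]
  have hAr : ∀ r ∈ R, ∀ v, ρ r (A v) = A v := by
    intro r hr v
    rw [hAapp, map_smul, map_sum]
    congr 1
    refine Fintype.sum_equiv (Equiv.mulLeft (⟨r, hr⟩ : R)) _ _ fun w => ?_
    rw [rho_comp]; rfl
  have hAfix : ∀ v, (∀ r ∈ R, ρ r v = v) → A v = v := by
    intro v hv
    rw [hAapp, Finset.sum_congr rfl fun (r : R) _ => hv r r.2, Finset.sum_const, Finset.card_univ,
      ← Nat.cast_smul_eq_nsmul (ZMod 3), smul_smul, inv_mul_cancel₀ hn0, one_smul]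
  let F₀ : Submodule (ZMod 3) E := LinearMap.ker A
  let F₁ : Submodule (ZMod 3) E :=
    { carrier := {v | ∀ r ∈ R, ρ r v = v}
      add_mem' := fun {u w} hu hw r hr => by rw [map_add, hu r hr, hw r hr]
      zero_mem' := fun r _ => map_zero _
      smul_mem' := fun c v hv r hr => by rw [map_smul, hv r hr] }
  have hF0 : ∀ g ∈ H, ∀ v ∈ F₀, ρ g v ∈ F₀ := by
    intro g hg v hv
    rw [LinearMap.mem_ker] at hv ⊢
    rw [← hAg g hg, hv, map_zero]
  have hdis : F₀ ⊓ F₁ = ⊥ := eq_bot_iff.2 fun v hv => by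
    rw [Submodule.mem_bot, ← hAfix v hv.2]
    exact LinearMap.mem_ker.1 hv.1
  have hsum : F₀ ⊔ F₁ = ⊤ := eq_top_iff.2 fun v _ => by
    rw [show v = (v - A v) + A v by rw [sub_add_cancel]]
    refine Submodule.add_mem_sup ?_ (fun r hr => hAr r hr v)
    rw [LinearMap.mem_ker, map_sub, hAfix (A v) (fun r hr => hAr r hr v), sub_self]
  have hRtriv : ∀ r ∈ R, (∀ v ∈ F₀, ρ r v = v) → r = 1 := by
    intro r hr h
    apply hfaith
    ext v
    have hv : v ∈ F₀ ⊔ F₁ := hsum ▸ Submodule.mem_top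
    obtain ⟨u, hu, w, hw, rfl⟩ := Submodule.mem_sup.1 hv
    rw [map_one, map_add, h u hu, hw r hr]; rfl
  have hFfaith : ∀ g ∈ H, (∀ v ∈ F₀, ρ g v = v) → g = 1 := by
    intro g hg h
    have hg' : g ∈ ((R ⊔ B : Subgroup S) : Set S) := hH ▸ hg
    rw [coe_mul_of_right_le_normalizer_left R B hBR] at hg'
    obtain ⟨r, hr, c, hc, rfl⟩ := Set.mem_mul.1 hg'
    -- the `B`-part is trivial
    have hc1 : c = 1 := by
      by_contra hc1
      let K : Subgroup S :=
        { carrier := {x | x ∈ H ∧ ∀ v ∈ F₀, ρ x v = v}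
          one_mem' := ⟨H.one_mem, fun v _ => by rw [map_one]; rfl⟩
          mul_mem' := fun {x y} hx hy => ⟨H.mul_mem hx.1 hy.1, fun v hv => by rw [← rho_comp, hy.2 v hv, hx.2 v hv]⟩
          inv_mem' := fun {x} hx => ⟨H.inv_mem hx.1, fun v hv => by
            nth_rewrite 1 [← hx.2 v hv]; exact rho_inv_apply ρ x v⟩ }
      have hcK : c ∈ K := by
        refine ⟨hH ▸ mem_sup_right hc, fun v hv => ?_⟩
        have hc3 : c ^ 3 = 1 := by
          have := pow_card_eq_one' (x := (⟨c, hc⟩ : B))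
          rw [hB] at this
          exact congrArg Subtype.val this
        -- powers of `r` invert powers of `c`
        have hrc : ∀ v ∈ F₀, ρ c v = ρ r⁻¹ v := fun v hv => by
          have h1 := h v hv
          nth_rewrite 2 [← h1]
          rw [rho_comp, inv_mul_cancel_left]
        have hk : ∀ k : ℕ, ∀ v ∈ F₀, ρ (c ^ k) v = ρ (r⁻¹ ^ k) v := by
          intro k
          induction k with
          | zero => intro v _; rw [pow_zero, pow_zero]
          | succ k ih =>
            intro v hv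
            rw [pow_succ, pow_succ, ← rho_comp, ← rho_comp, hrc v hv,
              ih _ (hF0 _ (H.inv_mem (hRH hr)) v hv)]
        have h3 : ∀ v ∈ F₀, ρ (r⁻¹ ^ 3) v = v := fun v hv => by rw [← hk 3 v hv, hc3, map_one]; rfl
        have hr3 := hRtriv _ (R.pow_mem (R.inv_mem hr) 3) h3
        have hr1 : r⁻¹ = 1 := by
          have h5 : orderOf r⁻¹ ∣ Nat.gcd (orderOf r⁻¹) 3 := Nat.dvd_gcd dvd_rfl (orderOf_dvd_of_pow_eq_one hr3)
          rw [(hcopR _ (R.inv_mem hr)).gcd_eq_one, Nat.dvd_one, orderOf_eq_one_iff] at h5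
          exact h5
        rw [hrc v hv, hr1, map_one]; rfl
      have hbK : b ∈ K := by
        have hz : zpowers c = B := eq_of_le_of_card_ge (zpowers_le.2 hc) (by
          rw [hB, Nat.card_zpowers]
          have h3 : orderOf c ∣ 3 := by
            rw [← Subgroup.orderOf_mk c hc]; exact hB ▸ orderOf_dvd_natCard _
          rcases (Nat.dvd_prime Nat.prime_three).1 h3 with h | h
          · exact absurd (orderOf_eq_one_iff.1 h) hc1
          · exact h.ge)
        exact (zpowers_le.2 hcK : zpowers c ≤ K) (hz.symm ▸ hbB)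
      have hRK : R ≤ K := hgen.trans ((closure_le K).2 (by
        rintro _ ⟨u, hu, rfl⟩
        rw [commutatorElement_def]
        refine K.mul_mem ⟨H.mul_mem (H.mul_mem (hRH hu) hbH) (H.inv_mem (hRH hu)), fun v hv => ?_⟩ (K.inv_mem hbK)
        rw [← rho_comp, ← rho_comp, hbK.2 _ (hF0 _ (H.inv_mem (hRH hu)) v hv), rho_comp, mul_inv_cancel, map_one]; rfl))
      exact hne (by rw [hRtriv q hqR (hRK hqR).2]; group)
    subst hc1
    rw [mul_one] at h ⊢
    exact hRtriv r hr h
  have hirr : ∀ N : Submodule (ZMod 3) E, N ≤ F₀ → (∀ r ∈ H, ∀ v ∈ N, ρ r v ∈ N) → N = ⊥ ∨ N = F₀ := by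
    intro N hN hinv
    have hqsH : ∀ i, qs b q i ∈ H := fun i => H.mul_mem (H.mul_mem (H.pow_mem hbH _) (hRH hqR)) (H.inv_mem (H.pow_mem hbH _))
    have htN : ∀ i, ∀ v ∈ N, tq ρ b q i v ∈ N := fun i v hv => hinv _ (hqsH i) v hv
    by_cases hC : ∀ i, ∀ v ∈ N, proj (tq ρ b q) (chiW i) v = 0
    · left
      have hbN : ∀ v ∈ N, ρ b v = v := by
        intro v hv
        apply hST.fix_C
        have he : v = proj (tq ρ b q) chiC v := by
          refine sub_eq_zero.1 (eq_zero_of_proj _ hST.tq_sq hST.tq_comm fun χ => ?_)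
          have key : (proj (tq ρ b q) χ) ∘ₗ (1 - proj (tq ρ b q) chiC) =
              if (χ = chiC ∨ ¬ ∃ i, χ = chiW i) then 0 else proj (tq ρ b q) χ := by
            refine LinearMap.ext_on hST.span_top ?_
            rintro w ⟨ψ, hw⟩
            by_cases hw0 : w = 0
            · simp [hw0]
            rw [LinearMap.comp_apply, LinearMap.sub_apply, Module.End.one_apply]
            rcases hST.pattern hw hw0 with rfl | ⟨i, rfl⟩
            · rw [proj_self _ _ hw, sub_self, map_zero]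
              split_ifs with h
              · rfl
              · rw [not_or] at h
                rw [proj_ne _ h.1 hw]
            · rw [proj_ne _ (chiW_ne i).symm hw, sub_zero]
              split_ifs with h
              · rw [proj_ne _ ?_ hw, LinearMap.zero_apply]
                rintro rfl
                rcases h with h | h
                · exact chiW_ne i h
                · exact h ⟨i, rfl⟩
              · rfl
          have := LinearMap.congr_fun key v
          rw [LinearMap.comp_apply, LinearMap.sub_apply, Module.End.one_apply] at this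
          rw [this]
          split_ifs with h
          · rfl
          · rw [not_or, not_not] at h
            obtain ⟨i, rfl⟩ := h.2
            exact hC i v hv
        intro i
        rw [he]
        have hkey : tq ρ b q i ∘ₗ proj (tq ρ b q) chiC = sgn (chiC i) • proj (tq ρ b q) chiC := by
          refine LinearMap.ext_on hST.span_top ?_
          rintro w ⟨ψ, hw⟩
          rw [LinearMap.comp_apply, LinearMap.smul_apply, proj_apply _ _ ψ hw]
          split_ifs with h
          · subst h; exact hw i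
          · rw [map_zero, smul_zero]
        exact LinearMap.congr_fun hkey v
      let K : Subgroup S :=
        { carrier := {x | x ∈ H ∧ ∀ v ∈ N, ρ x v = v}
          one_mem' := ⟨H.one_mem, fun v _ => by rw [map_one]; rfl⟩
          mul_mem' := fun {x y} hx hy => ⟨H.mul_mem hx.1 hy.1, fun v hv => by rw [← rho_comp, hy.2 v hv, hx.2 v hv]⟩
          inv_mem' := fun {x} hx => ⟨H.inv_mem hx.1, fun v hv => by
            nth_rewrite 1 [← hx.2 v hv]; exact rho_inv_apply ρ x v⟩ }
      have hRK : R ≤ K := hgen.trans ((closure_le K).2 (by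
        rintro _ ⟨u, hu, rfl⟩
        rw [commutatorElement_def]
        refine K.mul_mem ⟨H.mul_mem (H.mul_mem (hRH hu) hbH) (H.inv_mem (hRH hu)), fun v hv => ?_⟩
          (K.inv_mem ⟨hbH, hbN⟩)
        rw [← rho_comp, ← rho_comp, hbN _ (hinv _ (H.inv_mem (hRH hu)) v hv), rho_comp, mul_inv_cancel, map_one]; rfl))
      rw [eq_bot_iff, ← hdis]
      exact fun v hv => ⟨hN hv, fun r hr => (hRK hr).2 v hv⟩
    · right
      push_neg at hC
      obtain ⟨i₀, v₀, hv₀, hne₀⟩ := hC
      have hkey : ∀ (χ : Fin 3 → Bool) (w : E), proj (tq ρ b q) χ w ∈ comp (tq ρ b q) χ := by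
        intro χ w j
        have hkey : tq ρ b q j ∘ₗ proj (tq ρ b q) χ = sgn (χ j) • proj (tq ρ b q) χ := by
          refine LinearMap.ext_on hST.span_top ?_
          rintro u ⟨ψ, hu⟩
          rw [LinearMap.comp_apply, LinearMap.smul_apply, proj_apply _ _ ψ hu]
          split_ifs with h
          · subst h; exact hu j
          · rw [map_zero, smul_zero]
        exact LinearMap.congr_fun hkey w
      have hl0 : comp (tq ρ b q) (chiW i₀) ≤ N := by
        intro w hw
        obtain ⟨c, rfl⟩ := line_eq (hST.line_card i₀) (hkey _ v₀) hne₀ hw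
        exact N.smul_mem _ (proj_mem _ _ N htN hv₀)
      have hlall : ∀ i, comp (tq ρ b q) (chiW i) ≤ N := by
        have hstep : ∀ i, comp (tq ρ b q) (chiW i) ≤ N → comp (tq ρ b q) (chiW (i + 1)) ≤ N := by
          intro i hi w hw
          obtain ⟨e, he, he0⟩ := Submodule.exists_mem_ne_zero_of_ne_bot (hST.exists_line i)
          have hbe := hST.b_map he
          rw [chiW_shift] at hbe
          obtain ⟨c, rfl⟩ := line_eq (hST.line_card (i + 1)) hbe (fun h => he0 (rho_injective ρ b (h.trans (map_zero _).symm))) hw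
          exact N.smul_mem _ (hinv b hbH e (hi he))
        have h1 := hstep _ hl0
        have h2 := hstep _ h1
        intro i
        have h012 : ∀ i₀ i : Fin 3, i = i₀ ∨ i = i₀ + 1 ∨ i = i₀ + 1 + 1 := by decide
        rcases h012 i₀ i with rfl | rfl | rfl
        exacts [hl0, h1, h2]
      have hbmod : ∀ w, ρ b w - w ∈ N := by
        intro w
        have hw : w ∈ Submodule.span (ZMod 3) {v : E | ∃ χ, v ∈ comp (tq ρ b q) χ} := hST.span_top ▸ Submodule.mem_top
        induction hw using Submodule.span_induction with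
        | mem u hu =>
          obtain ⟨χ, hu⟩ := hu
          by_cases hu0 : u = 0
          · simp [hu0]
          rcases hST.pattern hu hu0 with rfl | ⟨i, rfl⟩
          · rw [hST.fix_C hu, sub_self]; exact zero_mem _
          · exact sub_mem (hinv b hbH u (hlall i hu)) (hlall i hu)
        | zero => rw [map_zero, sub_zero]; exact zero_mem _
        | add u w _ _ hu hw =>
          rw [map_add, show ρ b u + ρ b w - (u + w) = (ρ b u - u) + (ρ b w - w) by abel]
          exact add_mem hu hw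
        | smul c u _ hu => rw [map_smul, ← smul_sub]; exact N.smul_mem c hu
      let K : Subgroup S :=
        { carrier := {x | x ∈ H ∧ ∀ w, ρ x w - w ∈ N}
          one_mem' := ⟨H.one_mem, fun w => by rw [map_one, Module.End.one_apply, sub_self]; exact zero_mem _⟩
          mul_mem' := fun {x y} hx hy => ⟨H.mul_mem hx.1 hy.1, fun w => by
            rw [← rho_comp, show ρ x (ρ y w) - w = (ρ x (ρ y w) - ρ y w) + (ρ y w - w) by abel]
            exact add_mem (hx.2 _) (hy.2 w)⟩
          inv_mem' := fun {x} hx => ⟨H.inv_mem hx.1, fun w => by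
            have := neg_mem (hx.2 (ρ x⁻¹ w))
            rwa [neg_sub, rho_comp ρ x, mul_inv_cancel, map_one] at this⟩ }
      have hRK : R ≤ K := hgen.trans ((closure_le K).2 (by
        rintro _ ⟨u, hu, rfl⟩
        rw [commutatorElement_def]
        refine K.mul_mem ⟨H.mul_mem (H.mul_mem (hRH hu) hbH) (H.inv_mem (hRH hu)), fun w => ?_⟩
          (K.inv_mem ⟨hbH, hbmod⟩)
        have h1 := hinv _ (hRH hu) _ (hbmod (ρ u⁻¹ w))
        rwa [map_sub, rho_comp, rho_comp, rho_comp, mul_inv_cancel, map_one, Module.End.one_apply] at h1))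
      refine le_antisymm hN fun v hv => ?_
      rw [LinearMap.mem_ker, hAapp] at hv
      have e : v = -((Fintype.card R : ZMod 3)⁻¹ • ∑ r : R, (ρ (r : S) v - v)) := by
        rw [Finset.sum_sub_distrib, smul_sub, hv, zero_sub, neg_neg, Finset.sum_const, Finset.card_univ,
          ← Nat.cast_smul_eq_nsmul (ZMod 3), smul_smul, inv_mul_cancel₀ hn0, one_smul]
      rw [e]
      exact neg_mem (N.smul_mem _ (sum_mem fun r _ => (hRK r.2).2 v))
  refine ⟨?_, F₀, F₁, hdis, hsum, fun r hr v hv => hv r hr, hF0, hFfaith, hirr⟩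
  -- the shape
  let σ : Representation (ZMod 3) H F₀ :=
    { toFun := fun g => (ρ (g : S)).restrict (hF0 g g.2)
      map_one' := LinearMap.ext fun v => Subtype.ext (by
        show ρ ((1 : H) : S) v = v
        rw [OneMemClass.coe_one, map_one]; rfl)
      map_mul' := fun g h => LinearMap.ext fun v => Subtype.ext (by
        show ρ ((g * h : H) : S) v = ρ (g : S) (ρ (h : S) v)
        rw [rho_comp]; rfl) }
  have hσrank : Nat.card (LinearMap.range (σ ⟨b, hbH⟩ - 1)) ≤ 9 := by
    refine le_trans (Nat.card_le_card_of_injective (fun w : LinearMap.range (σ ⟨b, hbH⟩ - 1) =>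
      (⟨((w : F₀) : E), by
        obtain ⟨u, hu⟩ := w.2
        exact ⟨(u : E), by rw [← hu]; rfl⟩⟩ : LinearMap.range (ρ b - 1))) fun u w h => ?_) hrank
    exact Subtype.ext (Subtype.ext (congrArg (fun z : LinearMap.range (ρ b - 1) => (z : E)) h))
  have hσ : Irred σ ⟨b, hbH⟩ ⟨q, hRH hqR⟩ (R.subgroupOf H) :=
    { setting :=
        { faith := fun g h hgh => by
            have h1 : ((g : S)⁻¹ * (h : S)) = 1 := hFfaith _ (H.mul_mem (H.inv_mem g.2) h.2) fun v hv => by
              rw [← rho_comp]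
              have h2 : ρ (g : S) v = ρ (h : S) v := congrArg Subtype.val (LinearMap.congr_fun hgh ⟨v, hv⟩)
              rw [← h2, rho_inv_apply]
            exact Subtype.ext (inv_mul_eq_one.1 h1)
          ord := Subtype.ext hb3
          rank := hσrank
          sq := Subtype.ext (hQsq q hq)
          comm := Subtype.ext hcomm01
          prod := Subtype.ext hprod
          ne := fun h => hne (congrArg Subtype.val h) }
      normal := ⟨fun r hr g => by
        rw [mem_subgroupOf] at hr ⊢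
        exact (mem_normalizer_iff.1 (hHnorm g.2) _).1 hr⟩
      cop := fun r hr => by rw [← Subgroup.orderOf_coe]; exact hcopR _ hr
      q_mem := mem_subgroupOf.2 hqR
      top := fun N hN hbN => by
        rw [eq_top_iff]
        rintro ⟨g, hg⟩ -
        have hle : H ≤ N.map H.subtype := by
          conv_lhs => rw [hH]
          refine sup_le (fun r hr => ⟨⟨r, hRH hr⟩, hN (mem_subgroupOf.2 hr), rfl⟩) ?_
          rw [← hb, zpowers_le]
          exact ⟨⟨b, hbH⟩, hbN, rfl⟩
        obtain ⟨u, hu, hug⟩ := hle hg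
        rwa [show (⟨g, hg⟩ : H) = u from Subtype.ext hug.symm]
      gen := fun r hr => by
        have hle : R ≤ (closure {x : H | ∃ r ∈ R.subgroupOf H, ⁅r, (⟨b, hbH⟩ : H)⁆ = x}).map H.subtype := by
          refine hgen.trans ((closure_le _).2 ?_)
          rintro _ ⟨u, hu, rfl⟩
          exact ⟨_, subset_closure ⟨⟨u, hRH hu⟩, mem_subgroupOf.2 hu, rfl⟩, rfl⟩
        obtain ⟨u, hu, hur⟩ := hle (mem_subgroupOf.1 hr)
        rwa [show r = u from Subtype.ext hur.symm]
      irr := fun N hN => by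
        rcases hirr (N.map F₀.subtype) (Submodule.map_subtype_le _ _) (fun r hr v hv => by
          obtain ⟨w, hw, rfl⟩ := hv
          exact ⟨_, hN ⟨r, hr⟩ w hw, rfl⟩) with h | h
        · exact Or.inl (Submodule.map_injective_of_injective F₀.subtype_injective (by rw [h, Submodule.map_bot]))
        · exact Or.inr (Submodule.map_injective_of_injective F₀.subtype_injective (by rw [h, Submodule.map_subtype_top]))
      solvable := inferInstance }
  exact shape_transfer hRH hσ.shape

theorem rank_of_block {S : Type*} [Group S] {E : Type*} [AddCommGroup E] [Module (ZMod 3) E] [Finite E]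
    (ρ : Representation (ZMod 3) S E) (b : S) (hb : b ^ 3 = 1) (E₀ E₁ : Submodule (ZMod 3) E) (hE01 : E₀ ⊔ E₁ = ⊤)
    (hE1 : ∀ v ∈ E₁, ρ b v = v) (hE0inv : ∀ v ∈ E₀, ρ b v ∈ E₀) (hE0 : Nat.card E₀ = 27)
    (hind : ∃ v ∈ E₀, ρ b (ρ b v - v) - (ρ b v - v) ≠ 0) :
    Nat.card (LinearMap.range (ρ b - 1)) ≤ 9 := by
  obtain ⟨v, hv, hne⟩ := hind
  let f : E₀ →ₗ[ZMod 3] LinearMap.range (ρ b - 1) :=
    LinearMap.codRestrict _ ((ρ b - 1).comp E₀.subtype) fun u => ⟨(u : E), rfl⟩
  have hf : Function.Surjective f := by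
    rintro ⟨_, w, rfl⟩
    have hw : w ∈ E₀ ⊔ E₁ := hE01 ▸ Submodule.mem_top
    obtain ⟨u, hu, z, hz, rfl⟩ := Submodule.mem_sup.1 hw
    refine ⟨⟨u, hu⟩, Subtype.ext ?_⟩
    show (ρ b - 1) u = (ρ b - 1) (u + z)
    rw [map_add, LinearMap.sub_apply (ρ b) 1 z, hE1 z hz, Module.End.one_apply, sub_self, add_zero]
  obtain ⟨u, hu⟩ : ∃ u, u = ρ b (ρ b v - v) - (ρ b v - v) := ⟨_, rfl⟩
  have hu0 : u ∈ E₀ := hu ▸ sub_mem (hE0inv _ (sub_mem (hE0inv v hv) hv)) (sub_mem (hE0inv v hv) hv)
  have hker : (⟨u, hu0⟩ : E₀) ∈ LinearMap.ker f := by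
    rw [LinearMap.mem_ker]
    apply Subtype.ext
    show (ρ b - 1) u = 0
    rw [LinearMap.sub_apply, Module.End.one_apply, hu]
    simp only [map_sub, rho_comp]
    rw [show b * (b * b) = b ^ 3 by rw [pow_succ', pow_two], hb, map_one, Module.End.one_apply]
    have h3 : (3 : ℕ) • (ρ b v - ρ (b * b) v) = 0 := by
      rw [← Nat.cast_smul_eq_nsmul (ZMod 3), ZMod.natCast_self, zero_smul]
    rw [succ_nsmul, two_nsmul] at h3
    rw [← h3]
    abel
  have hk1 : 1 < Nat.card (LinearMap.ker f) := by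
    rw [Finite.one_lt_card_iff_nontrivial]
    exact ⟨⟨⟨_, hker⟩, 0, fun h => hne (hu ▸ congrArg (fun z : LinearMap.ker f => ((z : E₀) : E)) h)⟩⟩
  have hprod := Submodule.card_eq_card_quotient_mul_card (LinearMap.ker f)
  rw [hE0, Nat.card_congr (f.quotKerEquivOfSurjective hf).toEquiv] at hprod
  have hdvd : Nat.card (LinearMap.range (ρ b - 1)) ∣ 3 ^ 3 := ⟨Nat.card (LinearMap.ker f), by
    rw [show (3:ℕ) ^ 3 = 27 by norm_num]; rw [hprod, mul_comm]⟩
  obtain ⟨i, hi, hi'⟩ := (Nat.dvd_prime_pow Nat.prime_three).1 hdvd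
  rcases Nat.lt_or_ge i 3 with h | h
  · rw [hi']
    calc 3 ^ i ≤ 3 ^ 2 := Nat.pow_le_pow_right (by norm_num) (by omega)
      _ = 9 := by norm_num
  · exfalso
    obtain rfl : i = 3 := by omega
    rw [hi'] at hprod
    omega

end Cfsg.Agent.CubicBlock
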