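import Mathlib

/-!
# Signed permutations of at most four points
-/

set_option autoImplicit false
set_option maxRecDepth 100000
set_option synthInstance.maxSize 2000

namespace Cfsg.Agent.CubicBlock

/-- Signed permutations. -/
structure SM (n : ℕ) where
  sg : Fin n → ZMod 2
  pm : Equiv.Perm (Fin n)

variable {n : ℕ}

instance : DecidableEq (SM n) := fun x y =>
  decidable_of_iff (x.sg = y.sg ∧ x.pm = y.pm)
    ⟨fun h => by cases x; cases y; obtain ⟨h1, h2⟩ := h; cases h1; cases h2; rfl, fun h => h ▸ ⟨rfl, rfl⟩⟩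

instance : Mul (SM n) := ⟨fun x y => ⟨fun i => y.sg i + x.sg (y.pm i), x.pm * y.pm⟩⟩
instance : One (SM n) := ⟨⟨fun _ => 0, 1⟩⟩
instance : Inv (SM n) := ⟨fun x => ⟨fun i => -x.sg (x.pm⁻¹ i), x.pm⁻¹⟩⟩

theorem SM.ext' {x y : SM n} (h1 : ∀ i, x.sg i = y.sg i) (h2 : x.pm = y.pm) : x = y := by
  cases x; cases y
  obtain rfl := funext h1
  cases h2
  rfl

theorem SM.mul_sg (x y : SM n) (i : Fin n) : (x * y).sg i = y.sg i + x.sg (y.pm i) := rfl
theorem SM.mul_pm (x y : SM n) : (x * y).pm = x.pm * y.pm := rfl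
theorem SM.one_sg (i : Fin n) : (1 : SM n).sg i = 0 := rfl
theorem SM.one_pm : (1 : SM n).pm = 1 := rfl

instance : Group (SM n) where
  mul_assoc x y z := SM.ext' (fun i => by simp only [SM.mul_sg, SM.mul_pm, Equiv.Perm.mul_apply]; abel)
    (mul_assoc _ _ _)
  one_mul x := SM.ext' (fun i => by simp [SM.mul_sg, SM.one_sg]) (one_mul _)
  mul_one x := SM.ext' (fun i => by simp [SM.mul_sg, SM.one_sg, SM.one_pm]) (mul_one _)
  inv_mul_cancel x := SM.ext' (fun i => by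
    show x.sg i + -x.sg (x.pm⁻¹ (x.pm i)) = 0
    rw [← Equiv.Perm.mul_apply, inv_mul_cancel, Equiv.Perm.one_apply, add_neg_cancel]) (inv_mul_cancel _)

instance : Fintype (SM n) := Fintype.ofEquiv ((Fin n → ZMod 2) × Equiv.Perm (Fin n))
  { toFun := fun x => ⟨x.1, x.2⟩, invFun := fun x => (x.sg, x.pm), left_inv := fun _ => rfl, right_inv := fun _ => rfl }

/-- Even sign vector and even involutory permutation. -/
def Valid (x : SM n) : Prop := (∑ i, x.sg i = 0) ∧ Equiv.Perm.sign x.pm = 1 ∧ x.pm * x.pm = 1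

instance : DecidablePred (Valid (n := n)) := fun _ => inferInstanceAs (Decidable (_ ∧ _ ∧ _))

theorem perm_four : ∀ p : Equiv.Perm (Fin 4), Equiv.Perm.sign p = 1 → p * p = 1 ∨ p * p * p = 1 := by
  decide +kernel

theorem perm_three : ∀ p : Equiv.Perm (Fin 3), Equiv.Perm.sign p = 1 → p * p = 1 ∨ p * p * p = 1 := by
  decide +kernel

theorem perm_three_even : ∀ p : Equiv.Perm (Fin 3), Equiv.Perm.sign p = 1 → p * p = 1 → p = 1 := by
  decide +kernel

theorem valid_three_card : Fintype.card {x : SM 3 // Valid x} = 4 := by decide +kernel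

theorem valid_three_sq : ∀ x : {x : SM 3 // Valid x}, x.1 * x.1 = 1 := by decide +kernel

theorem valid_four_card : Fintype.card {x : SM 4 // Valid x} = 32 := by decide +kernel

theorem valid_diag_card : Fintype.card {x : SM 4 // Valid x ∧ x.pm = 1} = 8 := by decide +kernel

theorem valid_diag_sq : ∀ x : {x : SM 4 // Valid x ∧ x.pm = 1}, x.1 * x.1 = 1 := by decide +kernel

theorem diag_comm (x y : SM n) (hx : x.pm = 1) (hy : y.pm = 1) : x * y = y * x :=
  SM.ext' (fun i => by rw [SM.mul_sg, SM.mul_sg, hx, hy, Equiv.Perm.one_apply, add_comm])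
    (by rw [SM.mul_pm, SM.mul_pm, hx, hy])

theorem valid_four_sq : ∀ x : {x : SM 4 // Valid x},
    (x.1 * x.1).pm = 1 ∧ ((∀ i, (x.1 * x.1).sg i = 0) ∨ (∀ i, (x.1 * x.1).sg i = 1)) := by decide +kernel

theorem valid_four_noncomm : ∃ x y : {x : SM 4 // Valid x}, x.1 * y.1 ≠ y.1 * x.1 := by decide +kernel

theorem valid_four_center : ∀ x : {x : SM 4 // Valid x}, (∀ y : {x : SM 4 // Valid x}, x.1 * y.1 = y.1 * x.1) →
    x.1.pm = 1 ∧ ((∀ i, x.1.sg i = 0) ∨ (∀ i, x.1.sg i = 1)) := by decide +kernel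

theorem double_orbit : ∀ σ : Equiv.Perm (Fin 4), σ * σ * σ = 1 → σ ≠ 1 →
    ∀ π : Equiv.Perm (Fin 4), Equiv.Perm.sign π = 1 → π * π = 1 → π ≠ 1 →
    ∀ τ : Equiv.Perm (Fin 4), Equiv.Perm.sign τ = 1 → τ * τ = 1 →
      τ = 1 ∨ τ = π ∨ τ = σ * π * σ⁻¹ ∨ τ = σ * σ * π * (σ * σ)⁻¹ := by decide +kernel

theorem diag_span : ∀ d : Fin 4 → ZMod 2, ∑ i, d i = 0 → (∃ i j, d i ≠ d j) →
    ∀ σ : Equiv.Perm (Fin 4), σ * σ * σ = 1 → σ ≠ 1 → ∀ t : Fin 4 → ZMod 2, ∑ i, t i = 0 →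
    ∃ π : Equiv.Perm (Fin 4), Equiv.Perm.sign π = 1 ∧ π * π = 1 ∧ ∃ a b c : ZMod 2, ∀ i,
      t i = a * d i + b * d (σ i) + c * d (π i) := by decide +kernel

end Cfsg.Agent.CubicBlock
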