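import Cfsg.Agent.Lib.CubicBlock.Split
import Cfsg.Agent.Lib.CubicBlock.Signed
import Cfsg.Prelude.Def_Transfer
import Cfsg.Agent.S0012
import Cfsg.Agent.S0013

/-!
# The monomial case
-/

set_option autoImplicit false
set_option maxHeartbeats 1600000

namespace Cfsg.Agent.CubicBlock

open Subgroup
open scoped commutatorElement

variable {G : Type*} [Group G] [Finite G] {E : Type*} [AddCommGroup E] [Module (ZMod 3) E] [Finite E]

/-- An irreducible group generated by a `3'`-subgroup and the element of order three. -/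
structure Irred (ρ : Representation (ZMod 3) G E) (b q : G) (R : Subgroup G) : Prop where
  setting : Setting ρ b q
  normal : R.Normal
  cop : ∀ r ∈ R, (orderOf r).Coprime 3
  q_mem : q ∈ R
  top : ∀ N : Subgroup G, R ≤ N → b ∈ N → N = ⊤
  gen : R ≤ closure {x : G | ∃ r ∈ R, ⁅r, b⁆ = x}
  irr : ∀ N : Submodule (ZMod 3) E, (∀ g, ∀ v ∈ N, ρ g v ∈ N) → N = ⊥ ∨ N = ⊤
  solvable : Group.IsSolvable R

/-- The conclusion. -/
def Shape (R : Subgroup G) : Prop :=
  (Cfsg.IsElementaryAbelian 2 R ∧ Nat.card R = 4) ∨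
    (Cfsg.IsExtraspecial 2 R ∧ Nat.card R = 32 ∧
      ∃ A : Subgroup G, A ≤ R ∧ Cfsg.IsElementaryAbelian 2 A ∧ Nat.card A = 8)

variable {ρ : Representation (ZMod 3) G E} {b q : G} {R : Subgroup G}

/-- A normal subgroup containing `b` contains `R`. -/
theorem Irred.le_of_normal (I : Irred ρ b q R) (N : Subgroup G) [hN : N.Normal] (hb : b ∈ N) : R ≤ N :=
  I.gen.trans ((closure_le N).2 (by
    rintro _ ⟨r, -, rfl⟩
    rw [commutatorElement_def]
    exact N.mul_mem (hN.conj_mem b hb r) (N.inv_mem hb)))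

/-- A homomorphism to a commutative group kills `R`. -/
theorem Irred.map_eq_one (I : Irred ρ b q R) {M : Type*} [CommGroup M] (φ : G →* M) {r : G} (hr : r ∈ R) : φ r = 1 := by
  have : closure {x : G | ∃ r ∈ R, ⁅r, b⁆ = x} ≤ φ.ker := (closure_le _).2 (by
    rintro _ ⟨s, -, rfl⟩
    rw [SetLike.mem_coe, MonoidHom.mem_ker, map_commutatorElement, commutatorElement_def, mul_comm (φ s) (φ b),
      mul_inv_cancel_right, mul_inv_cancel])
  exact this (I.gen hr)

/-- A normal subgroup centralised by `b` is centralised by `R`. -/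
theorem Irred.centralize (I : Irred ρ b q R) (N : Subgroup G) [hN : N.Normal] (hb : ∀ u ∈ N, Commute u b) :
    ∀ r ∈ R, ∀ u ∈ N, Commute u r := by
  haveI : (centralizer (N : Set G)).Normal := ⟨fun c hc g => by
    intro u hu
    have h := hc (g⁻¹ * u * g) (by simpa using hN.conj_mem u hu g⁻¹)
    calc u * (g * c * g⁻¹) = g * ((g⁻¹ * u * g) * c) * g⁻¹ := by group
      _ = g * (c * (g⁻¹ * u * g)) * g⁻¹ := by rw [h]
      _ = g * c * g⁻¹ * u := by group⟩
  have := I.le_of_normal (centralizer (N : Set G)) (fun u hu => (hb u hu).eq)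
  exact fun r hr u hu => this hr u hu

/-- An element of `R` commuting with everything acts as a sign. -/
theorem Irred.central_sign (I : Irred ρ b q R) {a : G} (hR : ∀ r ∈ R, Commute a r) (hb : Commute a b) :
    ∃ s : Bool, ∀ v, ρ a v = sgn s • v := by
  classical
  have hall : ∀ g, Commute a g := by
    intro g
    have : centralizer {a} = (⊤ : Subgroup G) := I.top _ (fun r hr => mem_centralizer_singleton_iff.2 (hR r hr).eq.symm)
      (mem_centralizer_singleton_iff.2 hb.eq.symm)
    exact (mem_centralizer_singleton_iff.1 (this ▸ mem_top g : g ∈ centralizer {a})).symm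
  obtain ⟨e, he, he0⟩ := Submodule.exists_mem_ne_zero_of_ne_bot (I.setting.exists_line 0)
  have hae : ρ a e ∈ comp (tq ρ b q) (chiW 0) := by
    intro i
    show ρ (qs b q i) (ρ a e) = _
    rw [rho_comp, ← (hall _).eq, ← rho_comp]
    show ρ a (tq ρ b q i e) = _
    rw [he i, map_smul]
  obtain ⟨c, hc⟩ := line_eq (I.setting.line_card 0) he he0 hae
  rcases zmod_three c with rfl | ⟨s, rfl⟩
  · rw [zero_smul] at hc
    exact absurd (rho_injective ρ a (hc.trans (map_zero _).symm)) he0
  refine ⟨s, fun v => ?_⟩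
  let N : Submodule (ZMod 3) E := LinearMap.ker (ρ a - sgn s • (1 : Module.End (ZMod 3) E))
  have hN : ∀ v, v ∈ N ↔ ρ a v = sgn s • v := fun v => by
    simp [N, sub_eq_zero]
  rcases I.irr N (fun g v hv => by
    rw [hN] at hv ⊢
    rw [rho_comp, (hall g).eq, ← rho_comp, hv, map_smul]) with h | h
  · exact absurd ((Submodule.mem_bot _).1 (h ▸ (hN e).2 hc : e ∈ (⊥ : Submodule (ZMod 3) E))) he0
  · exact (hN v).1 (h ▸ Submodule.mem_top)

theorem zmod_two : ∀ a : ZMod 2, a = 0 ∨ a = 1 := by decide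
theorem sgn_add : ∀ a c : ZMod 2, sgn (decide (a + c = 1)) = sgn (decide (a = 1)) * sgn (decide (c = 1)) := by decide

theorem extraspecial_of {P : Type*} [Group P] [Finite P] (hcard : Nat.card P = 32)
    (hZ : Nat.card (center P) = 2) (hsq : ∀ x : P, x * x ∈ center P) (hnc : ∃ x y : P, x * y ≠ y * x) :
    Cfsg.IsExtraspecial 2 P := by
  haveI := Fact.mk Nat.prime_two
  have hp : IsPGroup 2 P := IsPGroup.of_card (n := 5) (by rw [hcard]; norm_num)
  have hcomm : ∀ x y : P, ⁅x, y⁆ ∈ center P := by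
    intro x y
    rw [show ⁅x, y⁆ = (x * x) * ((x⁻¹ * y) * (x⁻¹ * y)) * (y⁻¹ * y⁻¹) by rw [commutatorElement_def]; group]
    exact mul_mem (mul_mem (hsq x) (hsq _)) (hsq _)
  have hle : ∀ K : Subgroup P, K ≤ center P → K ≠ ⊥ → K = center P := fun K hK hne =>
    eq_of_le_of_card_ge hK (by
      rw [hZ]
      by_contra h
      exact hne (card_eq_one.1 (by have := Nat.card_pos (α := K); omega)))
  have hC : commutator P = center P := by
    refine hle _ ?_ ?_
    · rw [_root_.commutator_def, commutator_le]; exact fun x _ y _ => hcomm x y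
    · intro h
      obtain ⟨x, y, hxy⟩ := hnc
      refine hxy (commutatorElement_eq_one_iff_mul_comm.1 ?_)
      have : ⁅x, y⁆ ∈ commutator P := commutator_mem_commutator (mem_top x) (mem_top y)
      rwa [h, mem_bot] at this
  have hF : frattini P = center P := by
    refine le_antisymm ?_ ?_
    · exact Cfsg.Agent.S0013.result 2 hp (center P) hC.le fun x => by rw [pow_two]; exact hsq x
    · exact hC.symm.le.trans (Cfsg.Agent.S0012.result 2 hp).1
  exact ⟨⟨hp, hF, hC⟩, hZ⟩

theorem Irred.monomial (I : Irred ρ b q R) (A : Subgroup G) [hAn : A.Normal] (hAR : A ≤ R)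
    (hA2 : ∀ a ∈ A, a * a = 1) (hAb : ∃ a ∈ A, ¬ Commute a b) : Shape R := by
  classical
  haveI : Fintype A := Fintype.ofFinite A
  haveI hRn := I.normal
  have hAc : ∀ u ∈ A, ∀ w ∈ A, u * w = w * u := fun u hu w hw => by
    have hinv : ∀ t ∈ A, t⁻¹ = t := fun t ht => inv_eq_of_mul_eq_one_right (hA2 t ht)
    calc u * w = (u * w)⁻¹ := (hinv _ (A.mul_mem hu hw)).symm
      _ = w⁻¹ * u⁻¹ := mul_inv_rev _ _
      _ = w * u := by rw [hinv u hu, hinv w hw]
  obtain ⟨t, ht⟩ : ∃ t : A → Module.End (ZMod 3) E, ∀ a, t a = ρ (a : G) := ⟨_, fun _ => rfl⟩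
  have htsq : ∀ a v, t a (t a v) = v := fun a v => by rw [ht, rho_comp, hA2 _ a.2, map_one]; rfl
  have htc : ∀ a c v, t a (t c v) = t c (t a v) := fun a c v => by
    rw [ht, ht, rho_comp, rho_comp, hAc _ a.2 _ c.2]
  let Ω := {χ : A → Bool // comp t χ ≠ ⊥}
  have hmap : ∀ (g : G) {χ : A → Bool} {v : E}, v ∈ comp t χ →
      ρ g v ∈ comp t (fun a => χ ((MulAut.conjNormal g : MulAut A)⁻¹ a)) := by
    intro g χ v hv
    refine map_comp (t := t) (ρ g) (MulAut.conjNormal g : MulAut A).toEquiv (fun x u => ?_) hv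
    rw [ht, ht, rho_comp, rho_comp]
    show ρ (g * (x : G)) u = ρ ((((MulAut.conjNormal g : MulAut A) x : A) : G) * g) u
    rw [MulAut.conjNormal_apply, inv_mul_cancel_right]
  let act : G → Ω → Ω := fun g χ => ⟨fun a => χ.1 ((MulAut.conjNormal g : MulAut A)⁻¹ a), by
    intro h
    obtain ⟨v, hv, hv0⟩ := Submodule.exists_mem_ne_zero_of_ne_bot χ.2
    have := hmap g hv
    rw [h, Submodule.mem_bot] at this
    exact hv0 (rho_injective ρ g (by rw [this, map_zero]))⟩
  letI : MulAction G Ω :=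
    { smul := act
      one_smul := fun χ => Subtype.ext (funext fun a => by
        show χ.1 ((MulAut.conjNormal (1 : G) : MulAut A)⁻¹ a) = χ.1 a
        rw [map_one, inv_one]; rfl)
      mul_smul := fun g h χ => Subtype.ext (funext fun a => by
        show χ.1 ((MulAut.conjNormal (g * h) : MulAut A)⁻¹ a) = χ.1 (_)
        rw [map_mul, mul_inv_rev]; rfl) }
  have hsmul : ∀ (g : G) (χ : Ω) {v : E}, v ∈ comp t χ.1 → ρ g v ∈ comp t (g • χ).1 := fun g χ v hv => hmap g hv
  have hmem0 : ∀ {χ : A → Bool} {v : E}, v ∈ comp t χ → v ≠ 0 → comp t χ ≠ ⊥ := fun {χ v} hv hv0 h =>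
    hv0 ((Submodule.mem_bot _).1 (h ▸ hv))
  have hspan := span_eigen t htsq htc
  -- transitivity
  have htrans : ∀ χ ψ : Ω, ∃ g : G, g • χ = ψ := by
    intro χ ψ
    by_contra hno
    push_neg at hno
    let N : Submodule (ZMod 3) E := Submodule.span (ZMod 3) {v | ∃ g : G, v ∈ comp t (g • χ).1}
    have hinv : ∀ g, ∀ v ∈ N, ρ g v ∈ N := by
      intro g v hv
      induction hv using Submodule.span_induction with
      | mem v hv =>
        obtain ⟨h, hh⟩ := hv
        exact Submodule.subset_span ⟨g * h, by rw [mul_smul]; exact hsmul g _ hh⟩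
      | zero => rw [map_zero]; exact zero_mem _
      | add u w _ _ hu hw => rw [map_add]; exact add_mem hu hw
      | smul c w _ hw => rw [map_smul]; exact N.smul_mem c hw
    obtain ⟨v, hv, hv0⟩ := Submodule.exists_mem_ne_zero_of_ne_bot χ.2
    obtain ⟨w, hw, hw0⟩ := Submodule.exists_mem_ne_zero_of_ne_bot ψ.2
    rcases I.irr N hinv with h | h
    · have hvN : v ∈ N := Submodule.subset_span ⟨1, by rw [one_smul]; exact hv⟩
      rw [h] at hvN
      exact hv0 ((Submodule.mem_bot _).1 hvN)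
    · have hle : N ≤ LinearMap.ker (proj t ψ.1) := by
        rw [Submodule.span_le]
        rintro u ⟨g, hu⟩
        exact LinearMap.mem_ker.2 (proj_ne t (fun he => hno g (Subtype.ext he.symm)) hu)
      have : w ∈ N := h ▸ Submodule.mem_top
      exact hw0 ((proj_self t _ hw).symm.trans (LinearMap.mem_ker.1 (hle this)))
  -- the element of order three moves some component
  obtain ⟨χ₀, hχ₀⟩ : ∃ χ : Ω, b • χ ≠ χ := by
    by_contra hall
    push_neg at hall
    obtain ⟨a, ha, hab⟩ := hAb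
    apply hab
    apply I.setting.faith
    refine LinearMap.ext_on hspan ?_
    rintro v ⟨χ, hv⟩
    by_cases hv0 : v = 0
    · rw [hv0, map_zero, map_zero]
    rw [map_mul, map_mul]
    show ρ a (ρ b v) = ρ b (ρ a v)
    have h1 := hsmul b ⟨χ, hmem0 hv hv0⟩ hv
    rw [hall] at h1
    rw [show ρ a = t ⟨a, ha⟩ from (ht ⟨a, ha⟩).symm, h1 ⟨a, ha⟩, hv ⟨a, ha⟩, map_smul]
  obtain ⟨χ₁, h1def⟩ : ∃ χ, χ = b • χ₀ := ⟨_, rfl⟩
  obtain ⟨χ₂, h2def⟩ : ∃ χ, χ = b • χ₁ := ⟨_, rfl⟩
  have h20 : b • χ₂ = χ₀ := by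
    rw [h2def, h1def, ← mul_smul, ← mul_smul, show b * b * b = b ^ 3 by rw [pow_succ, pow_two], I.setting.ord, one_smul]
  have h01 : χ₀ ≠ χ₁ := fun h => hχ₀ (h1def ▸ h.symm)
  have h02 : χ₀ ≠ χ₂ := fun h => h01 (by rw [← h] at h20; rw [h1def, h20])
  have h12 : χ₁ ≠ χ₂ := fun h => h01 (by
    have e : b • χ₁ = b • χ₀ := by rw [← h2def, ← h, h1def]
    exact (smul_left_cancel b e).symm)
  have hline : ∀ χ : Ω, Nat.card (comp t χ.1) ≤ 3 := by
    intro χ
    obtain ⟨g, rfl⟩ := htrans χ₀ χ
    have h0 := card_comp_le t (ρ b) (rho_injective ρ b) I.setting.rank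
      (fun h => h01 (Subtype.ext h)) (fun h => h02 (Subtype.ext h)) (fun h => h12 (Subtype.ext h))
      (fun v hv => h1def ▸ hsmul b _ hv) (fun v hv => h2def ▸ hsmul b _ hv)
    let f : comp t (g • χ₀).1 → comp t χ₀.1 := fun v => ⟨ρ g⁻¹ v, by
      have := hsmul g⁻¹ _ v.2
      rwa [inv_smul_smul] at this⟩
    refine (Nat.card_le_card_of_injective f fun u w h => Subtype.ext (rho_injective ρ g⁻¹ (congrArg Subtype.val h))).trans h0
  have hfix : ∀ χ : Ω, χ ≠ χ₀ → χ ≠ χ₁ → χ ≠ χ₂ → b • χ = χ := by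
    intro χ h0 h1 h2
    obtain ⟨w, hw, hw0⟩ := Submodule.exists_mem_ne_zero_of_ne_bot χ.2
    have h := hsmul b χ hw
    have hbw : ρ b w = w := range_eq t (ρ b) (rho_injective ρ b) I.setting.rank
      (fun h => h01 (Subtype.ext h)) (fun h => h02 (Subtype.ext h)) (fun h => h12 (Subtype.ext h))
      (fun v hv => h1def ▸ hsmul b _ hv) (fun v hv => h2def ▸ hsmul b _ hv) χ₀.2
      (fun he => h0 (Subtype.ext he)) (fun he => h1 (Subtype.ext he)) (fun he => h2 (Subtype.ext he)) hw h
      (fun he => h2 (smul_left_cancel b (by rw [h20]; exact Subtype.ext he)))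
      (fun he => h1 (smul_left_cancel b (by rw [← h2def]; exact Subtype.ext he)))
    rw [hbw] at h
    exact Subtype.ext (eq_of_mem_comp h hw hw0)
  -- the supports of the conjugates of `b`
  let P : G →* Equiv.Perm Ω := MulAction.toPermHom G Ω
  have hPa : ∀ (g : G) (χ : Ω), P g χ = g • χ := fun _ _ => rfl
  have hcopR : ∀ r ∈ R, ∀ x : Equiv.Perm Ω, x = P r → x * x * x = 1 → x = 1 := by
    rintro r hr x rfl h3
    have h1 : (P r) ^ orderOf r = 1 := by rw [← map_pow, pow_orderOf_eq_one, map_one]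
    have := pow_gcd_eq_one.2 ⟨h1, (show (P r) ^ 3 = 1 by rw [pow_succ, pow_two, h3])⟩
    rwa [(I.cop r hr).gcd_eq_one, pow_one] at this
  have hdecomp : ∀ g : G, ∃ r ∈ R, ∃ k : ℕ, g = r * b ^ k := by
    intro g
    have h := I.top (R ⊔ zpowers b) le_sup_left (mem_sup_right (mem_zpowers b))
    have hg : g ∈ ((R ⊔ zpowers b : Subgroup G) : Set G) := h ▸ mem_top g
    rw [normal_mul] at hg
    obtain ⟨r, hr, c, hc, rfl⟩ := Set.mem_mul.1 hg
    obtain ⟨k, -, rfl⟩ : ∃ k, k < orderOf b ∧ b ^ k = c := by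
      simpa [eq_comm] using (mem_zpowers_iff_mem_range_orderOf.1 hc)
    exact ⟨r, hr, k, rfl⟩
  let moved : G → Set Ω := fun g => {χ | (g * b * g⁻¹) • χ ≠ χ}
  let S0 : Finset Ω := {χ₀, χ₁, χ₂}
  have hS0 : ∀ χ, χ ∈ S0 ↔ b • χ ≠ χ := by
    intro χ
    simp only [S0, Finset.mem_insert, Finset.mem_singleton]
    constructor
    · rintro (rfl | rfl | rfl)
      · exact hχ₀
      · rw [← h2def]; exact h12.symm
      · rw [h20]; exact h02
    · intro h
      by_contra hno
      push_neg at hno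
      exact h (hfix χ hno.1 hno.2.1 hno.2.2)
  let T : G → Finset Ω := fun g => S0.image (g • ·)
  have hTmem : ∀ g χ, χ ∈ T g ↔ g⁻¹ • χ ∈ S0 := by
    intro g χ
    simp only [T, Finset.mem_image]
    exact ⟨fun ⟨y, hy, e⟩ => by rwa [← e, inv_smul_smul], fun h => ⟨_, h, smul_inv_smul g χ⟩⟩
  have hcard : ∀ g, (T g).card = 3 := fun g => by
    rw [Finset.card_image_of_injective _ (MulAction.injective g)]
    exact Finset.card_eq_three.2 ⟨χ₀, χ₁, χ₂, h01, h02, h12, rfl⟩
  have hbS : ∀ (k : ℕ) χ, χ ∈ S0 → b ^ k • χ ∈ S0 := by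
    intro k
    induction k with
    | zero => intro χ h; rwa [pow_zero, one_smul]
    | succ k ih =>
      intro χ h
      rw [pow_succ', mul_smul, hS0]
      intro he
      exact (hS0 _).1 (ih χ h) (smul_left_cancel b he)
  -- pairwise intersections
  have hmeet : ∀ g h, T g = T h ∨ (T g ∩ T h).card = 2 := by
    have base : ∀ r ∈ R, T r = S0 ∨ (S0 ∩ T r).card = 2 := by
      intro r hr
      by_cases hne : T r = S0
      · exact Or.inl hne
      right
      obtain ⟨x, hx⟩ : ∃ x, x = b⁻¹ * (r * b * r⁻¹) := ⟨_, rfl⟩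
      have hxR : x ∈ R := by
        rw [hx, show b⁻¹ * (r * b * r⁻¹) = (b⁻¹ * r * b) * r⁻¹ by group]
        exact R.mul_mem (by simpa using hRn.conj_mem r hr b⁻¹) (R.inv_mem hr)
      have hτfix : ∀ χ, χ ∉ T r → (r * b * r⁻¹) • χ = χ := fun χ h => by
        rw [hTmem, hS0, not_not] at h
        rw [mul_smul, mul_smul, h, smul_inv_smul]
      have hσfix : ∀ χ, χ ∉ S0 → b • χ = χ := fun χ h => by rwa [hS0, not_not] at h
      have hle : (S0 ∩ T r).card ≤ 3 := (Finset.card_le_card Finset.inter_subset_left).trans_eq (by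
        exact Finset.card_eq_three.2 ⟨χ₀, χ₁, χ₂, h01, h02, h12, rfl⟩)
      have hne3 : (S0 ∩ T r).card ≠ 3 := fun h3 => hne (by
        have h1 : S0 ∩ T r = T r := Finset.eq_of_subset_of_card_le Finset.inter_subset_right (by rw [hcard, h3])
        exact Finset.eq_of_subset_of_card_le (h1 ▸ Finset.inter_subset_left) (by
          rw [hcard, Finset.card_eq_three.2 ⟨χ₀, χ₁, χ₂, h01, h02, h12, rfl⟩]))
      rcases Nat.lt_or_ge (S0 ∩ T r).card 2 with hlt | hge
      swap
      · omega
      exfalso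
      rcases Nat.eq_zero_or_pos (S0 ∩ T r).card with h0 | h1
      · rw [Finset.card_eq_zero] at h0
        have hdisj : Equiv.Perm.Disjoint (P b) (P (r * b * r⁻¹)) := fun χ => by
          by_cases hc : χ ∈ S0
          · exact Or.inr (hτfix χ fun hT => by
              have : χ ∈ S0 ∩ T r := Finset.mem_inter.2 ⟨hc, hT⟩
              rw [h0] at this
              exact Finset.notMem_empty χ this)
          · exact Or.inl (hσfix χ hc)
        have hc := hdisj.commute
        have hb3 : ∀ y : G, y ^ 3 = 1 → P y ^ 3 = 1 := fun y h => by rw [← map_pow, h, map_one]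
        have hx3 : P x ^ 3 = 1 := by
          rw [hx, map_mul, map_inv, hc.inv_left.mul_pow, inv_pow, hb3 b I.setting.ord,
            hb3 _ (by rw [conj_pow, I.setting.ord]; group), inv_one, one_mul]
        have hx1 := hcopR x hxR _ rfl (by rw [← pow_two, ← pow_succ]; exact hx3)
        rw [hx, map_mul, map_inv, inv_mul_eq_one] at hx1
        refine hχ₀ ((hPa b χ₀).symm.trans ?_)
        rcases hdisj χ₀ with h | h
        · exact h
        · rw [hx1]; exact h
      · have h1' : (S0 ∩ T r).card = 1 := by omega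
        obtain ⟨c₀, hc₀⟩ := Finset.card_eq_one.1 h1'
        have hcS : c₀ ∈ S0 ∧ c₀ ∈ T r := Finset.mem_inter.1 (by rw [hc₀]; exact Finset.mem_singleton_self _)
        obtain ⟨τ, hτ⟩ : ∃ τ, τ = r * b * r⁻¹ := ⟨_, rfl⟩
        rw [← hτ] at hτfix hx
        have hτ3 : τ * τ * τ = 1 := by
          rw [hτ, show r * b * r⁻¹ * (r * b * r⁻¹) * (r * b * r⁻¹) = r * (b ^ 3) * r⁻¹ by
            rw [pow_succ, pow_two]; group, I.setting.ord, mul_one, mul_inv_cancel]
        have hb3 : b * b * b = 1 := by rw [← pow_two, ← pow_succ, I.setting.ord]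
        have hSb : ∀ χ ∈ S0, b • χ ∈ S0 := fun χ h => by simpa using hbS 1 χ h
        have hTτ : ∀ χ, χ ∈ T r → τ • χ ∈ T r ∧ τ • χ ≠ χ := fun χ h => by
          rw [hTmem] at h ⊢
          rw [hτ]
          refine ⟨?_, fun he => (hS0 _).1 h ?_⟩
          · rw [← mul_smul, show r⁻¹ * (r * b * r⁻¹) = b * r⁻¹ by group, mul_smul]
            exact hSb _ h
          · have := congrArg (r⁻¹ • ·) he
            simpa [← mul_smul, mul_assoc] using this
        obtain ⟨f, hf⟩ : ∃ f : Fin 5 → Ω, f = ![c₀, b • c₀, b • b • c₀, τ • c₀, τ • τ • c₀] := ⟨_, rfl⟩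
        have sep : ∀ u ∈ S0, u ≠ c₀ → ∀ w ∈ T r, u ≠ w := fun u hu hne w hw he => hne (by
          have : u ∈ S0 ∩ T r := Finset.mem_inter.2 ⟨hu, he ▸ hw⟩
          rw [hc₀] at this
          exact Finset.mem_singleton.1 this)
        have m1 := hSb _ hcS.1
        have m2 := hSb _ m1
        have n1 := (hS0 _).1 hcS.1
        have n2 := (hS0 _).1 m1
        have n3 : b • b • c₀ ≠ c₀ := fun he => n1 (by
          have := congrArg (b • ·) he
          simp only [← mul_smul, ← mul_assoc, hb3, one_smul] at this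
          rw [← mul_smul] at he
          exact this.symm)
        have t1 := hTτ _ hcS.2
        have t2 := hTτ _ t1.1
        have t3 : τ • τ • c₀ ≠ c₀ := fun he => t1.2 (by
          have := congrArg (τ • ·) he
          simp only [← mul_smul, ← mul_assoc, hτ3, one_smul] at this
          exact this.symm)
        have hinj : Function.Injective f := by
          intro i j hij
          rw [hf] at hij
          fin_cases i <;> fin_cases j <;> simp at hij ⊢
          all_goals first
            | exact n1 hij.symm | exact n1 hij | exact n2 hij.symm | exact n2 hij | exact n3 hij | exact n3 hij.symm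
            | exact t1.2 hij.symm | exact t1.2 hij | exact t2.2 hij.symm | exact t2.2 hij | exact t3 hij | exact t3 hij.symm
            | exact sep _ m1 n1 _ t1.1 hij | exact sep _ m1 n1 _ t2.1 hij
            | exact sep _ m2 n3 _ t1.1 hij | exact sep _ m2 n3 _ t2.1 hij
            | exact sep _ m1 n1 _ t1.1 hij.symm | exact sep _ m1 n1 _ t2.1 hij.symm
            | exact sep _ m2 n3 _ t1.1 hij.symm | exact sep _ m2 n3 _ t2.1 hij.symm
        let ι : Fin 5 ↪ Ω := ⟨f, hinj⟩
        have hσS : ∀ χ, χ ∈ S0 → χ = f 0 ∨ χ = f 1 ∨ χ = f 2 := by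
          have : S0 = {f 0, f 1, f 2} := (Finset.eq_of_subset_of_card_le (by
            simp only [Finset.insert_subset_iff, Finset.singleton_subset_iff, hf]
            exact ⟨hcS.1, m1, m2⟩) (by
            rw [Finset.card_eq_three.2 ⟨_, _, _, hinj.ne (by decide : (0:Fin 5) ≠ 1), hinj.ne (by decide : (0:Fin 5) ≠ 2),
              hinj.ne (by decide : (1:Fin 5) ≠ 2), rfl⟩,
              Finset.card_eq_three.2 ⟨χ₀, χ₁, χ₂, h01, h02, h12, rfl⟩])).symm
          intro χ h; rw [this] at h; simpa using h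
        have hτS : ∀ χ, χ ∈ T r → χ = f 0 ∨ χ = f 3 ∨ χ = f 4 := by
          have : T r = {f 0, f 3, f 4} := (Finset.eq_of_subset_of_card_le (by
            simp only [Finset.insert_subset_iff, Finset.singleton_subset_iff, hf]
            exact ⟨hcS.2, t1.1, t2.1⟩) (by
            rw [Finset.card_eq_three.2 ⟨_, _, _, hinj.ne (by decide : (0:Fin 5) ≠ 3), hinj.ne (by decide : (0:Fin 5) ≠ 4),
              hinj.ne (by decide : (3:Fin 5) ≠ 4), rfl⟩, hcard])).symm
          intro χ h; rw [this] at h; simpa using h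
        obtain ⟨σ5, hσ5⟩ : ∃ e : Equiv.Perm (Fin 5), e = Equiv.swap 0 2 * Equiv.swap 0 1 := ⟨_, rfl⟩
        obtain ⟨τ5, hτ5⟩ : ∃ e : Equiv.Perm (Fin 5), e = Equiv.swap 0 4 * Equiv.swap 0 3 := ⟨_, rfl⟩
        have hPσ : P b = Equiv.Perm.viaEmbedding σ5 ι := by
          refine Equiv.ext fun χ => ?_
          by_cases hr' : χ ∈ Set.range ι
          · obtain ⟨i, rfl⟩ := hr'
            rw [Equiv.Perm.viaEmbedding_apply, hPa]
            show b • f i = f (σ5 i)
            rw [hσ5]
            fin_cases i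
            · show b • f 0 = f 1; simp [hf]
            · show b • f 1 = f 2; simp [hf]
            · show b • f 2 = f 0; simp [hf, ← mul_smul, ← mul_assoc, hb3]
            · show b • f 3 = f 3
              simp only [hf]
              exact hσfix _ fun h => sep _ h t1.2 _ t1.1 rfl
            · show b • f 4 = f 4
              simp only [hf]
              exact hσfix _ fun h => sep _ h t3 _ t2.1 rfl
          · rw [Equiv.Perm.viaEmbedding_apply_of_notMem _ _ _ hr', hPa]
            exact hσfix χ fun h => hr' (by rcases hσS χ h with rfl | rfl | rfl <;> exact ⟨_, rfl⟩)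
        have hPτ : P τ = Equiv.Perm.viaEmbedding τ5 ι := by
          refine Equiv.ext fun χ => ?_
          by_cases hr' : χ ∈ Set.range ι
          · obtain ⟨i, rfl⟩ := hr'
            rw [Equiv.Perm.viaEmbedding_apply, hPa]
            show τ • f i = f (τ5 i)
            rw [hτ5]
            fin_cases i
            · show τ • f 0 = f 3; simp [hf]
            · show τ • f 1 = f 1
              simp only [hf]
              exact hτfix _ fun h => sep _ m1 n1 _ h rfl
            · show τ • f 2 = f 2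
              simp only [hf]
              exact hτfix _ fun h => sep _ m2 n3 _ h rfl
            · show τ • f 3 = f 4; simp [hf]
            · show τ • f 4 = f 0; simp [hf, ← mul_smul, ← mul_assoc, hτ3]
          · rw [Equiv.Perm.viaEmbedding_apply_of_notMem _ _ _ hr', hPa]
            exact hτfix χ fun h => hr' (by rcases hτS χ h with rfl | rfl | rfl <;> exact ⟨_, rfl⟩)
        have hyR : b * x * b⁻¹ ∈ R := hRn.conj_mem x hxR b
        have key : ∀ s t : Equiv.Perm (Fin 5), s = Equiv.swap 0 2 * Equiv.swap 0 1 → t = Equiv.swap 0 4 * Equiv.swap 0 3 →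
            ((s⁻¹ * t) * (s * (s⁻¹ * t) * s⁻¹)⁻¹) * ((s⁻¹ * t) * (s * (s⁻¹ * t) * s⁻¹)⁻¹) *
              ((s⁻¹ * t) * (s * (s⁻¹ * t) * s⁻¹)⁻¹) = 1 ∧ (s⁻¹ * t) * (s * (s⁻¹ * t) * s⁻¹)⁻¹ ≠ 1 := by
          rintro s t rfl rfl
          decide +kernel
        obtain ⟨k3, k1⟩ := key σ5 τ5 hσ5 hτ5
        obtain ⟨w, hw⟩ : ∃ w, w = (σ5⁻¹ * τ5) * (σ5 * (σ5⁻¹ * τ5) * σ5⁻¹)⁻¹ := ⟨_, rfl⟩
        rw [← hw] at k3 k1
        have hPw : P (x * (b * x * b⁻¹)⁻¹) = Equiv.Perm.viaEmbeddingHom ι w := by
          rw [hw, hx]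
          simp only [map_mul, map_inv, hPσ, hPτ, Equiv.Perm.viaEmbeddingHom_apply]
        have := hcopR _ (R.mul_mem hxR (R.inv_mem hyR)) _ rfl (by rw [hPw, ← map_mul, ← map_mul, k3, map_one])
        rw [hPw] at this
        exact k1 (Equiv.Perm.viaEmbeddingHom_injective ι (this.trans (map_one _).symm))
    intro g h
    obtain ⟨r, hr, k, hk⟩ := hdecomp (g⁻¹ * h)
    have hT : T r = (T h).image (g⁻¹ • ·) := by
      ext χ
      rw [Finset.mem_image (s := T h)]
      have hiff : ∀ y, b ^ k • y ∈ S0 ↔ y ∈ S0 := fun y => by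
        refine ⟨fun hy => ?_, hbS k y⟩
        have := hbS (2 * k) _ hy
        rwa [← mul_smul, ← pow_add, show 2 * k + k = 3 * k by omega, pow_mul, I.setting.ord, one_pow, one_smul] at this
      constructor
      · intro hχ
        refine ⟨g • χ, ?_, inv_smul_smul g χ⟩
        rw [hTmem, ← hiff, ← mul_smul, ← mul_smul, show b ^ k * h⁻¹ * g = r⁻¹ by
          rw [show h⁻¹ = (g⁻¹ * h)⁻¹ * g⁻¹ by group, hk]; group]
        exact (hTmem r χ).1 hχ
      · rintro ⟨y, hy, rfl⟩
        rw [hTmem, ← mul_smul, show r⁻¹ * g⁻¹ = b ^ k * h⁻¹ by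
          rw [show h⁻¹ = (g⁻¹ * h)⁻¹ * g⁻¹ by group, hk]; group, mul_smul, hiff]
        exact (hTmem h y).1 hy
    have hS : S0 = (T g).image (g⁻¹ • ·) := by
      simp only [T, Finset.image_image]
      conv_lhs => rw [← Finset.image_id (s := S0)]
      congr 1
      funext χ
      simp
    rcases base r hr with e | e
    · left
      rw [hS, hT] at e
      exact (Finset.image_injective (MulAction.injective g⁻¹) e).symm
    · right
      rw [hS, hT, ← Finset.image_inter _ _ (MulAction.injective g⁻¹),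
        Finset.card_image_of_injective _ (MulAction.injective g⁻¹)] at e
      exact e
  haveI : Fintype Ω := Fintype.ofFinite Ω
  have hTimg : ∀ g h, T (g * h) = (T h).image (g • ·) := fun g h => by
    simp only [T, Finset.image_image]
    congr 1; funext χ; exact mul_smul g h χ
  have hcov : ∀ χ, ∃ g, χ ∈ T g := fun χ => by
    obtain ⟨g, rfl⟩ := htrans χ₀ χ
    exact ⟨g, Finset.mem_image_of_mem _ (by simp [S0])⟩
  have hn34 : Fintype.card Ω = 3 ∨ Fintype.card Ω = 4 := by
    have h3 : 3 ≤ Fintype.card Ω := by rw [← hcard 1]; exact Finset.card_le_univ _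
    suffices Fintype.card Ω ≤ 4 by omega
    by_contra hbig
    have hT1 : ∃ g, T g ≠ T 1 := by
      by_contra hall
      push_neg at hall
      have : (Finset.univ : Finset Ω) ⊆ T 1 := fun χ _ => by
        obtain ⟨g, hg⟩ := hcov χ; rwa [hall g] at hg
      have := Finset.card_le_card this
      rw [Finset.card_univ, hcard] at this
      omega
    obtain ⟨g₂, hg₂⟩ := hT1
    obtain ⟨I2, hI2⟩ : ∃ I2, I2 = T g₂ ∩ T 1 := ⟨_, rfl⟩
    have hI2c : I2.card = 2 := hI2 ▸ (hmeet g₂ 1).resolve_left hg₂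
    obtain ⟨U, hU⟩ : ∃ U, U = T g₂ ∪ T 1 := ⟨_, rfl⟩
    have hUc : U.card = 4 := by
      have := Finset.card_union_add_card_inter (T g₂) (T 1)
      rw [← hI2, ← hU, hI2c, hcard, hcard] at this
      omega
    obtain ⟨χ, hχU⟩ : ∃ χ, χ ∉ U := by
      by_contra hall
      push_neg at hall
      have := Finset.card_le_card (fun χ _ => hall χ : (Finset.univ : Finset Ω) ⊆ U)
      rw [Finset.card_univ, hUc] at this
      omega
    obtain ⟨g₃, hg₃⟩ := hcov χ
    rw [hU, Finset.mem_union, not_or] at hχU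
    have hm1 : (T g₃ ∩ T 1).card = 2 := (hmeet g₃ 1).resolve_left fun h => hχU.2 (h ▸ hg₃)
    have hm2 : (T g₃ ∩ T g₂).card = 2 := (hmeet g₃ g₂).resolve_left fun h => hχU.1 (h ▸ hg₃)
    have he : ((T g₃).erase χ).card = 2 := by rw [Finset.card_erase_of_mem hg₃, hcard]
    have e1 : T g₃ ∩ T 1 = (T g₃).erase χ := Finset.eq_of_subset_of_card_le
      (fun y hy => Finset.mem_erase.2 ⟨fun h => hχU.2 (h ▸ (Finset.mem_inter.1 hy).2), (Finset.mem_inter.1 hy).1⟩)
      (by rw [he, hm1])
    have e2 : T g₃ ∩ T g₂ = (T g₃).erase χ := Finset.eq_of_subset_of_card_le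
      (fun y hy => Finset.mem_erase.2 ⟨fun h => hχU.1 (h ▸ (Finset.mem_inter.1 hy).2), (Finset.mem_inter.1 hy).1⟩)
      (by rw [he, hm2])
    have hI3 : I2 ⊆ T g₃ := by
      have hsub : (T g₃).erase χ ⊆ I2 := fun y hy => by
        rw [hI2]
        exact Finset.mem_inter.2 ⟨(Finset.mem_inter.1 (e2.symm ▸ hy)).2, (Finset.mem_inter.1 (e1.symm ▸ hy)).2⟩
      rw [← Finset.eq_of_subset_of_card_le hsub (by rw [hI2c, he])]
      exact Finset.erase_subset _ _
    have hall : ∀ g, I2 ⊆ T g := by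
      intro g
      by_contra hng
      obtain ⟨a₀, ha, hag⟩ := Finset.not_subset.1 hng
      have hsub : ∀ j, I2 ⊆ T j → (T j).erase a₀ ⊆ T g := by
        intro j hj
        have hc : (T g ∩ T j).card = 2 := (hmeet g j).resolve_left fun h => hag (h.symm ▸ hj ha)
        have := Finset.eq_of_subset_of_card_le
          (s := T g ∩ T j) (t := (T j).erase a₀)
          (fun y hy => Finset.mem_erase.2 ⟨fun h => hag (h ▸ (Finset.mem_inter.1 hy).1), (Finset.mem_inter.1 hy).2⟩)
          (by rw [Finset.card_erase_of_mem (hj ha), hcard, hc])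
        intro y hy
        exact (Finset.mem_inter.1 (this.symm ▸ hy)).1
      have hI12 : I2 ⊆ T g₂ ∧ I2 ⊆ T 1 := hI2 ▸ ⟨Finset.inter_subset_left, Finset.inter_subset_right⟩
      have hall3 : insert χ (U.erase a₀) ⊆ T g := by
        intro y hy
        rcases Finset.mem_insert.1 hy with rfl | hy
        · refine hsub g₃ hI3 (Finset.mem_erase.2 ⟨fun h => hχU.2 (h ▸ hI12.2 ha), hg₃⟩)
        · rw [Finset.mem_erase, hU, Finset.mem_union] at hy
          rcases hy.2 with h | h
          · exact hsub g₂ hI12.1 (Finset.mem_erase.2 ⟨hy.1, h⟩)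
          · exact hsub 1 hI12.2 (Finset.mem_erase.2 ⟨hy.1, h⟩)
      have := Finset.card_le_card hall3
      rw [hcard, Finset.card_insert_of_notMem (fun h => by
          have := Finset.mem_of_mem_erase h
          rw [hU, Finset.mem_union] at this
          exact this.elim hχU.1 hχU.2),
        Finset.card_erase_of_mem (hU ▸ Finset.mem_union_left _ (hI12.1 ha)), hUc] at this
      omega
    obtain ⟨a₀, ha⟩ := Finset.card_pos.1 (show 0 < I2.card by omega)
    have hmem : ∀ g : G, g • a₀ ∈ T 1 := fun g => by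
      have h1 : a₀ ∈ T (g⁻¹ * 1) := hall _ ha
      rw [hTimg] at h1
      obtain ⟨y, hy, hy'⟩ := Finset.mem_image.1 h1
      rw [← hy', smul_inv_smul]; exact hy
    have : (Finset.univ : Finset Ω) ⊆ T 1 := fun ψ _ => by
      obtain ⟨g, rfl⟩ := htrans a₀ ψ
      exact hmem g
    have := Finset.card_le_card this
    rw [Finset.card_univ, hcard] at this
    omega
  -- signed permutations
  obtain ⟨n, hn⟩ : ∃ n, Fintype.card Ω = n := ⟨_, rfl⟩
  let eΩ : Ω ≃ Fin n := Fintype.equivFinOfCardEq hn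
  have hvec : ∀ i : Fin n, ∃ v ∈ comp t (eΩ.symm i).1, v ≠ 0 := fun i =>
    Submodule.exists_mem_ne_zero_of_ne_bot (eΩ.symm i).2
  choose e he he0 using hvec
  let P' : G →* Equiv.Perm (Fin n) := eΩ.permCongrHom.toMonoidHom.comp P
  have hP'a : ∀ g i, P' g i = eΩ (g • eΩ.symm i) := fun g i => rfl
  have hsg : ∀ g i, ∃ s : ZMod 2, ρ g (e i) = sgn (decide (s = 1)) • e (P' g i) := by
    intro g i
    have h1 : ρ g (e i) ∈ comp t (eΩ.symm (P' g i)).1 := by
      rw [hP'a, Equiv.symm_apply_apply]; exact hsmul g _ (he i)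
    obtain ⟨c, hc⟩ := line_eq (hline _) (he (P' g i)) (he0 _) h1
    rcases zmod_three c with rfl | ⟨s, rfl⟩
    · rw [zero_smul] at hc
      exact absurd (rho_injective ρ g (hc.trans (map_zero _).symm)) (he0 i)
    · exact ⟨if s then 1 else 0, by cases s <;> simpa using hc⟩
  choose s hs using hsg
  have hsinj : ∀ (a c : ZMod 2) (i : Fin n), sgn (decide (a = 1)) • e i = sgn (decide (c = 1)) • e i → a = c := by
    intro a c i h
    have h' := sgn_inj _ _ (smul_left_injective _ (he0 i) h)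
    rcases zmod_two a with rfl | rfl <;> rcases zmod_two c with rfl | rfl <;> simp_all
  let Φ : G →* SM n := MonoidHom.mk' (fun g => ⟨s g, P' g⟩) fun g h => by
    refine SM.ext' (fun i => ?_) (map_mul P' g h)
    refine hsinj _ _ (P' (g * h) i) ?_
    show sgn (decide (s (g * h) i = 1)) • e (P' (g * h) i) = sgn (decide (s h i + s g (P' h i) = 1)) • e (P' (g * h) i)
    rw [← hs, ← rho_comp, hs h, map_smul, hs g, smul_smul, ← sgn_add, map_mul P']
    rfl
  have hspanE : Submodule.span (ZMod 3) (Set.range e) = ⊤ := by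
    rw [eq_top_iff, ← hspan, Submodule.span_le]
    rintro v ⟨χ, hv⟩
    by_cases hv0 : v = 0
    · rw [hv0]; exact zero_mem _
    obtain ⟨c, hc⟩ := line_eq (hline ⟨χ, hmem0 hv hv0⟩) (v := v)
      (e := e (eΩ ⟨χ, hmem0 hv hv0⟩)) (by simpa using he (eΩ ⟨χ, hmem0 hv hv0⟩)) (he0 _) hv
    rw [hc]
    exact Submodule.smul_mem _ _ (Submodule.subset_span ⟨_, rfl⟩)
  have hΦinj : Function.Injective Φ := by
    intro g h hgh
    apply I.setting.faith
    refine LinearMap.ext_on hspanE ?_
    rintro _ ⟨i, rfl⟩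
    rw [hs, hs, show s g = s h from congrArg SM.sg hgh, show P' g = P' h from congrArg SM.pm hgh]
  let δ : G →* Multiplicative (ZMod 2) := MonoidHom.mk' (fun g => Multiplicative.ofAdd (∑ i, s g i)) fun g h => by
    show Multiplicative.ofAdd _ = Multiplicative.ofAdd _ * Multiplicative.ofAdd _
    rw [← ofAdd_add]
    congr 1
    rw [Finset.sum_congr rfl fun i _ => (show s (g * h) i = s h i + s g (P' h i) from
      congrFun (congrArg SM.sg (map_mul Φ g h)) i), Finset.sum_add_distrib, Equiv.sum_comp (P' h) (s g), add_comm]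
  have hsign : ∀ r ∈ R, Equiv.Perm.sign (P' r) = 1 := fun r hr => I.map_eq_one (Equiv.Perm.sign.comp P') hr
  have hpsq : ∀ r ∈ R, P' r * P' r = 1 := by
    intro r hr
    have hcases : P' r * P' r = 1 ∨ P' r * P' r * P' r = 1 := by
      have h := hsign r hr
      rcases hn34 with h3 | h4
      · obtain rfl : n = 3 := hn.symm.trans h3
        exact perm_three _ h
      · obtain rfl : n = 4 := hn.symm.trans h4
        exact perm_four _ h
    rcases hcases with h | h
    · exact h
    · have := hcopR r hr _ rfl (eΩ.permCongrHom.injective (by rw [map_mul, map_mul, map_one]; exact h))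
      show eΩ.permCongrHom (P r) * eΩ.permCongrHom (P r) = 1
      rw [this, map_one, mul_one]
  have hvalid : ∀ r ∈ R, Valid (Φ r) := fun r hr =>
    ⟨congrArg Multiplicative.toAdd (I.map_eq_one δ hr), hsign r hr, hpsq r hr⟩
  let emb : R → {x : SM n // Valid x} := fun r => ⟨Φ r, hvalid r r.2⟩
  have hemb : Function.Injective emb := fun u w h => Subtype.ext (hΦinj (congrArg Subtype.val h))
  rcases hn34 with h3 | h4
  · -- three lines
    obtain rfl : n = 3 := hn.symm.trans h3
    left
    have hRsq : ∀ r ∈ R, r * r = 1 := fun r hr => hΦinj (by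
      rw [map_mul, map_one]; exact valid_three_sq (emb ⟨r, hr⟩))
    refine ⟨⟨⟨⟨fun u w => Subtype.ext ?_⟩⟩, fun r hr => by rw [pow_two]; exact hRsq r hr⟩, ?_⟩
    · have hinv : ∀ t ∈ R, t⁻¹ = t := fun t ht => inv_eq_of_mul_eq_one_right (hRsq t ht)
      calc (u : G) * w = ((u : G) * w)⁻¹ := (hinv _ (R.mul_mem u.2 w.2)).symm
        _ = (w : G)⁻¹ * (u : G)⁻¹ := mul_inv_rev _ _
        _ = (w : G) * u := by rw [hinv u u.2, hinv w w.2]
    · apply le_antisymm
      · refine (Nat.card_le_card_of_injective emb hemb).trans_eq ?_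
        rw [Nat.card_eq_fintype_card, valid_three_card]
      · have hq1 : q ≠ 1 := fun h => I.setting.ne (by rw [h]; group)
        have hmem : ∀ j, qs b q j ∈ R := fun j => hRn.conj_mem q I.q_mem _
        let f : Option (Fin 3) → R := fun o => o.elim 1 fun j => ⟨qs b q j, hmem j⟩
        have hne : ∀ i j, qs b q i = qs b q j → i = j := by
          have hne1 : ∀ j, qs b q j ≠ 1 := fun j h => hq1 (by
            rw [qs] at h
            rw [show q = (b ^ j.val)⁻¹ * (b ^ j.val * q * (b ^ j.val)⁻¹) * b ^ j.val by group, h, mul_one, inv_mul_cancel])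
          have h10 : qs b q 1 ≠ qs b q 0 := by rw [qs_one, qs_zero]; exact I.setting.ne
          have h20 : qs b q 2 ≠ qs b q 0 := fun h => hne1 1 (by
            rw [← I.setting.qs_prod] at h; exact mul_eq_left.1 h)
          have h21 : qs b q 2 ≠ qs b q 1 := fun h => hne1 0 (by
            rw [← I.setting.qs_prod] at h; exact mul_eq_right.1 h)
          intro i j h
          rcases fin3 i with rfl | rfl | rfl <;> rcases fin3 j with rfl | rfl | rfl
          exacts [rfl, absurd h.symm h10, absurd h.symm h20, absurd h h10, rfl, absurd h.symm h21,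
            absurd h h20, absurd h h21, rfl]
        have hf : Function.Injective f := by
          rintro (_ | i) (_ | j) h
          · rfl
          · exfalso
            have h' : (1 : G) = qs b q j := congrArg Subtype.val h
            rw [qs, eq_comm, mul_inv_eq_one, mul_eq_left] at h'
            exact hq1 h'
          · exfalso
            have h' : qs b q i = 1 := congrArg Subtype.val h
            rw [qs, mul_inv_eq_one, mul_eq_left] at h'
            exact hq1 h'
          · rw [hne i j (congrArg Subtype.val h)]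
        have := Nat.card_le_card_of_injective f hf
        rwa [Nat.card_eq_fintype_card, Fintype.card_option, Fintype.card_fin] at this
  · -- four lines
    obtain rfl : n = 4 := hn.symm.trans h4
    right
    obtain ⟨β, hβ⟩ : ∃ β, β = P' b := ⟨_, rfl⟩
    have hβ3 : β * β * β = 1 := by
      rw [hβ, ← map_mul, ← map_mul, show b * b * b = b ^ 3 by rw [pow_succ, pow_two], I.setting.ord, map_one]
    have hβ1 : β ≠ 1 := fun h => hχ₀ (by
      have := Equiv.congr_fun (hβ ▸ h) (eΩ χ₀)
      rw [hP'a, Equiv.symm_apply_apply, Equiv.Perm.one_apply] at this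
      exact eΩ.injective this)
    obtain ⟨r₁, hr₁, hr₁ne⟩ : ∃ r ∈ R, P' r ≠ 1 := by
      by_contra hall
      push_neg at hall
      obtain ⟨ψ, hψ⟩ : ∃ ψ, ψ ∉ S0 := by
        by_contra hc
        push_neg at hc
        have := Finset.card_le_card (fun χ _ => hc χ : (Finset.univ : Finset Ω) ⊆ S0)
        rw [Finset.card_univ, h4, Finset.card_eq_three.2 ⟨χ₀, χ₁, χ₂, h01, h02, h12, rfl⟩] at this
        omega
      obtain ⟨g, hg⟩ := htrans ψ χ₀
      have hfixψ : ∀ g : G, g • ψ = ψ := by
        intro g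
        have htop := I.top (MulAction.stabilizer G ψ) (fun r hr => by
          rw [MulAction.mem_stabilizer_iff]
          have := Equiv.congr_fun (hall r hr) (eΩ ψ)
          rw [hP'a, Equiv.symm_apply_apply, Equiv.Perm.one_apply] at this
          exact eΩ.injective this) (by
          rw [MulAction.mem_stabilizer_iff]; rwa [hS0, not_not] at hψ)
        exact MulAction.mem_stabilizer_iff.1 (htop ▸ mem_top g)
      exact hψ (by rw [← hfixψ g, hg]; simp [S0])
    have hperm : ∀ π : Equiv.Perm (Fin 4), Equiv.Perm.sign π = 1 → π * π = 1 → ∃ r ∈ R, P' r = π := by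
      intro π h1 h2
      rcases double_orbit β hβ3 hβ1 (P' r₁) (hsign _ hr₁) (hpsq _ hr₁) hr₁ne π h1 h2 with h | h | h | h
      · exact ⟨1, R.one_mem, by rw [map_one, h]⟩
      · exact ⟨r₁, hr₁, h.symm⟩
      · exact ⟨b * r₁ * b⁻¹, hRn.conj_mem _ hr₁ b, by rw [h, map_mul, map_mul, map_inv, hβ]⟩
      · exact ⟨b * b * r₁ * (b * b)⁻¹, hRn.conj_mem _ hr₁ _, by rw [h, map_mul, map_mul, map_inv, map_mul, hβ]⟩
    have hApm : ∀ a ∈ A, P' a = 1 := by
      intro a ha
      refine Equiv.ext fun i => ?_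
      rw [hP'a, Equiv.Perm.one_apply]
      refine (congrArg eΩ ?_).trans (eΩ.apply_symm_apply i)
      apply Subtype.ext
      funext c
      show (eΩ.symm i).1 ((MulAut.conjNormal a : MulAut A)⁻¹ c) = _
      refine congrArg (eΩ.symm i).1 (Subtype.ext ?_)
      rw [← map_inv, MulAut.conjNormal_apply, inv_inv, hAc _ (A.inv_mem ha) _ c.2, inv_mul_cancel_right]
    obtain ⟨a, ha, hab⟩ := hAb
    have hdiag_d : ∃ i j, s a i ≠ s a j := by
      by_contra hall
      push_neg at hall
      apply hab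
      apply hΦinj
      rw [map_mul, map_mul]
      refine SM.ext' (fun i => ?_) ?_
      · show s b i + s a (P' b i) = s a i + s b (P' a i)
        rw [hApm a ha, Equiv.Perm.one_apply, hall (P' b i) i, add_comm]
      · show P' a * P' b = P' b * P' a
        rw [hApm a ha, one_mul, mul_one]
    let H : Subgroup (SM 4) := R.map Φ
    have hdiag : ∀ t : Fin 4 → ZMod 2, ∑ i, t i = 0 → (⟨t, 1⟩ : SM 4) ∈ H := by
      intro t ht
      obtain ⟨π, hπ1, hπ2, ca, cb, cc, hc⟩ := diag_span (s a) (hvalid a (hAR ha)).1 hdiag_d β hβ3 hβ1 t ht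
      obtain ⟨r, hr, hrπ⟩ := hperm π hπ1 hπ2
      have conjΦ : ∀ g : G, g⁻¹ * a * g ∈ R ∧ Φ (g⁻¹ * a * g) = ⟨fun i => s a (P' g i), 1⟩ := by
        intro g
        refine ⟨by simpa using hRn.conj_mem a (hAR ha) g⁻¹, ?_⟩
        rw [map_mul, map_mul, mul_assoc, map_inv, inv_mul_eq_iff_eq_mul]
        refine SM.ext' (fun i => ?_) ?_
        · show s g i + s a (P' g i) = s a (P' g i) + s g ((1 : Equiv.Perm (Fin 4)) i)
          rw [Equiv.Perm.one_apply, add_comm]
        · show P' a * P' g = P' g * 1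
          rw [hApm a ha, one_mul, mul_one]
      have hpow : ∀ (c : ZMod 2) (d : Fin 4 → ZMod 2), (⟨d, 1⟩ : SM 4) ∈ H → (⟨fun i => c * d i, 1⟩ : SM 4) ∈ H := by
        intro c d hd
        rcases zmod_two c with rfl | rfl
        · convert H.one_mem using 1
          exact SM.ext' (fun i => by simp [SM.one_sg]) rfl
        · simpa using hd
      have hadd : ∀ d d' : Fin 4 → ZMod 2, (⟨d, 1⟩ : SM 4) ∈ H → (⟨d', 1⟩ : SM 4) ∈ H →
          (⟨fun i => d i + d' i, 1⟩ : SM 4) ∈ H := by
        intro d d' hd hd'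
        convert H.mul_mem hd' hd using 1
        exact SM.ext' (fun i => rfl) (one_mul 1).symm
      have m1 : (⟨s a, 1⟩ : SM 4) ∈ H := ⟨a, hAR ha, SM.ext' (fun i => rfl) (hApm a ha)⟩
      have m2 : (⟨fun i => s a (β i), 1⟩ : SM 4) ∈ H := ⟨_, (conjΦ b).1, by rw [(conjΦ b).2, hβ]⟩
      have m3 : (⟨fun i => s a (π i), 1⟩ : SM 4) ∈ H := ⟨_, (conjΦ r).1, by rw [(conjΦ r).2, hrπ]⟩
      rw [funext hc]
      exact hadd _ _ (hadd _ _ (hpow ca _ m1) (hpow cb _ m2)) (hpow cc _ m3)
    have hsurj : Function.Surjective emb := by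
      rintro ⟨⟨t, π⟩, ht, hπ1, hπ2⟩
      obtain ⟨r, hr, hrπ⟩ := hperm π hπ1 hπ2
      have hd := hdiag (fun i => t i + s r i) (by rw [Finset.sum_add_distrib, ht, show ∑ i, s r i = 0 from (hvalid r hr).1, add_zero])
      obtain ⟨d, hd1, hd2⟩ := hd
      refine ⟨⟨r * d, R.mul_mem hr hd1⟩, Subtype.ext ?_⟩
      show Φ (r * d) = _
      rw [map_mul, hd2]
      refine SM.ext' (fun i => ?_) ?_
      · show t i + s r i + s r ((1 : Equiv.Perm (Fin 4)) i) = t i
        rw [Equiv.Perm.one_apply, add_assoc, CharTwo.add_self_eq_zero, add_zero]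
      · show P' r * 1 = π
        rw [mul_one, hrπ]
    have hcardR : Nat.card R = 32 := by
      rw [Nat.card_eq_of_bijective emb ⟨hemb, hsurj⟩, Nat.card_eq_fintype_card, valid_four_card]
    have hcomm_iff : ∀ u w : R, u * w = w * u ↔ (emb u).1 * (emb w).1 = (emb w).1 * (emb u).1 := fun u w =>
      ⟨fun h => by
        have h' : (u : G) * w = (w : G) * u := congrArg Subtype.val h
        show Φ u * Φ w = Φ w * Φ u
        rw [← map_mul, ← map_mul, h'], fun h => Subtype.ext (hΦinj (show Φ ((u : G) * w) = Φ ((w : G) * u) by rw [map_mul, map_mul]; exact h))⟩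
    have hZmem : ∀ u : R, (Φ u).pm = 1 → ((∀ i, (Φ u).sg i = 0) ∨ (∀ i, (Φ u).sg i = 1)) → u ∈ center R := by
      intro u hu hsg
      rw [mem_center_iff]
      intro w
      rw [hcomm_iff]
      refine SM.ext' (fun i => ?_) ?_
      · show (Φ u).sg i + (Φ w).sg ((Φ u).pm i) = (Φ w).sg i + (Φ u).sg ((Φ w).pm i)
        rw [hu, Equiv.Perm.one_apply]
        rcases hsg with h | h <;> rw [h, h, add_comm]
      · show (Φ w).pm * (Φ u).pm = (Φ u).pm * (Φ w).pm
        rw [hu, one_mul, mul_one]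
    have hsq : ∀ u : R, u * u ∈ center R := fun u => by
      obtain ⟨h1, h2⟩ := valid_four_sq (emb u)
      exact hZmem (u * u) (by rw [Subgroup.coe_mul, map_mul]; exact h1) (by rw [Subgroup.coe_mul, map_mul]; exact h2)
    have hZ : Nat.card (center R) = 2 := by
      obtain ⟨z, hz⟩ := hsurj ⟨⟨fun _ => 1, 1⟩, by decide⟩
      have hzΦ : Φ z = ⟨fun _ => 1, 1⟩ := congrArg Subtype.val hz
      have hzm : z ∈ center R := hZmem z (by rw [hzΦ]) (Or.inr fun i => by rw [hzΦ])
      rw [Nat.card_eq_two_iff' (1 : center R)]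
      refine ⟨⟨z, hzm⟩, fun h => ?_, fun y hy => ?_⟩
      · have h' : z = (1 : R) := congrArg Subtype.val h
        rw [h', OneMemClass.coe_one, map_one] at hzΦ
        exact absurd (congrFun (congrArg SM.sg hzΦ) 0) (by decide)
      · obtain ⟨h1, h2⟩ := valid_four_center (emb y) fun w => by
          obtain ⟨w', rfl⟩ := hsurj w
          exact (hcomm_iff _ _).1 (mem_center_iff.1 y.2 w').symm
        rcases h2 with h2 | h2
        · exfalso
          apply hy
          apply Subtype.ext
          apply hemb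
          refine Subtype.ext (SM.ext' (fun i => ?_) ?_)
          · exact (h2 i).trans (by show (0 : ZMod 2) = (Φ ((1 : R) : G)).sg i; rw [OneMemClass.coe_one, map_one]; rfl)
          · exact h1.trans (by show 1 = (Φ ((1 : R) : G)).pm; rw [OneMemClass.coe_one, map_one]; rfl)
        · apply Subtype.ext
          apply hemb
          exact Subtype.ext (SM.ext' (fun i => (h2 i).trans (by show (1 : ZMod 2) = (Φ z).sg i; rw [hzΦ]))
            (h1.trans (by show 1 = (Φ z).pm; rw [hzΦ])))
    refine ⟨extraspecial_of hcardR hZ hsq ?_, hcardR, ?_⟩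
    · obtain ⟨x, y, hxy⟩ := valid_four_noncomm
      obtain ⟨u, rfl⟩ := hsurj x
      obtain ⟨w, rfl⟩ := hsurj y
      exact ⟨u, w, fun h => hxy ((hcomm_iff u w).1 h)⟩
    · refine ⟨R ⊓ MonoidHom.ker P', inf_le_left, ⟨⟨⟨fun u w => Subtype.ext (hΦinj ?_)⟩⟩, fun u hu => ?_⟩, ?_⟩
      · show Φ ((u : G) * w) = Φ ((w : G) * u)
        rw [map_mul, map_mul]
        exact diag_comm _ _ u.2.2 w.2.2
      · apply hΦinj
        rw [map_pow, map_one, pow_two]
        exact valid_diag_sq ⟨Φ u, hvalid u hu.1, hu.2⟩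
      · rw [Nat.card_eq_of_bijective
          (fun u : ↥(R ⊓ MonoidHom.ker P') => (⟨Φ u, hvalid u u.2.1, u.2.2⟩ : {x : SM 4 // Valid x ∧ x.pm = 1}))
          ⟨fun u w h => Subtype.ext (hΦinj (congrArg Subtype.val h)), fun x => ?_⟩,
          Nat.card_eq_fintype_card, valid_diag_card]
        obtain ⟨u, hu⟩ := hsurj ⟨x.1, x.2.1⟩
        refine ⟨⟨u, u.2, ?_⟩, Subtype.ext (show Φ (u : G) = x.1 from congrArg Subtype.val hu)⟩
        show P' (u : G) = 1
        have := congrArg (fun y : {x : SM 4 // Valid x} => y.1.pm) hu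
        exact this.trans x.2.2

end Cfsg.Agent.CubicBlock
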