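import Cfsg.Agent.Lib.CubicBlock.Eigen

/-!
# An element of order three cycling a four-group on a module over the field with three elements
-/

set_option autoImplicit false
set_option maxHeartbeats 1600000

namespace Cfsg.Agent.CubicBlock

variable {G : Type*} [Group G] {E : Type*} [AddCommGroup E] [Module (ZMod 3) E]

/-- A faithful module on which an element of order three with small commutator space cycles a four-group. -/
structure Setting (ρ : Representation (ZMod 3) G E) (b q : G) : Prop where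
  faith : Function.Injective ρ
  ord : b ^ 3 = 1
  rank : Nat.card (LinearMap.range (ρ b - 1)) ≤ 9
  sq : q * q = 1
  comm : q * (b * q * b⁻¹) = b * q * b⁻¹ * q
  prod : q * (b * q * b⁻¹) = b * b * q * (b * b)⁻¹
  ne : b * q * b⁻¹ ≠ q

variable {ρ : Representation (ZMod 3) G E} {b q : G}

theorem fin3 : ∀ i : Fin 3, i = 0 ∨ i = 1 ∨ i = 2 := by decide
theorem fin3_shift : ∀ i : Fin 3, i - 2 + 1 = i - 1 := by decide
theorem fin3_cases : ∀ i j : Fin 3, j = i ∨ j = i - 1 ∨ j = i - 2 := by decide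
theorem fin3_third : ∀ i j : Fin 3, i ≠ j → ∃ k, k ≠ i ∧ k ≠ j := by decide
theorem fin3_all : ∀ i j k x : Fin 3, i ≠ j → k ≠ i → k ≠ j → x = i ∨ x = j ∨ x = k := by decide
theorem fin3_pair : ∀ i : Fin 3, ∃ k l : Fin 3, k ≠ l ∧ ∀ x, x = i ∨ x = k ∨ x = l := by decide

/-- The three involutions. -/
def qs (b q : G) (i : Fin 3) : G := b ^ i.val * q * (b ^ i.val)⁻¹

theorem rho_comp (ρ : Representation (ZMod 3) G E) (g h : G) (v : E) : ρ g (ρ h v) = ρ (g * h) v := by
  rw [map_mul]; rfl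

theorem rho_inv_apply (ρ : Representation (ZMod 3) G E) (g : G) (v : E) : ρ g⁻¹ (ρ g v) = v := by
  rw [rho_comp, inv_mul_cancel, map_one]; rfl

theorem rho_injective (ρ : Representation (ZMod 3) G E) (g : G) : Function.Injective (ρ g) := fun u v h => by
  rw [← rho_inv_apply ρ g u, h, rho_inv_apply]

theorem qs_zero (b q : G) : qs b q 0 = q := by
  show b ^ 0 * q * (b ^ 0)⁻¹ = q
  group

theorem qs_one (b q : G) : qs b q 1 = b * q * b⁻¹ := by
  show b ^ 1 * q * (b ^ 1)⁻¹ = _
  rw [pow_one]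

theorem qs_two (b q : G) : qs b q 2 = b * b * q * (b * b)⁻¹ := by
  show b ^ 2 * q * (b ^ 2)⁻¹ = _
  rw [pow_two]

theorem Setting.qs_sq (S : Setting ρ b q) (i : Fin 3) : qs b q i * qs b q i = 1 := by
  rw [qs, show b ^ i.val * q * (b ^ i.val)⁻¹ * (b ^ i.val * q * (b ^ i.val)⁻¹) = b ^ i.val * (q * q) * (b ^ i.val)⁻¹
    by group, S.sq, mul_one, mul_inv_cancel]

theorem Setting.qs_prod (S : Setting ρ b q) : qs b q 0 * qs b q 1 = qs b q 2 := by
  rw [qs_zero, qs_one, qs_two, S.prod]

theorem Setting.qs_comm (S : Setting ρ b q) (i j : Fin 3) : Commute (qs b q i) (qs b q j) := by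
  have h01 : Commute (qs b q 0) (qs b q 1) := by rw [qs_zero, qs_one]; exact S.comm
  have h02 : Commute (qs b q 0) (qs b q 2) := by rw [← S.qs_prod]; exact (Commute.refl _).mul_right h01
  have h12 : Commute (qs b q 1) (qs b q 2) := by rw [← S.qs_prod]; exact h01.symm.mul_right (Commute.refl _)
  rcases fin3 i with rfl | rfl | rfl <;> rcases fin3 j with rfl | rfl | rfl
  exacts [Commute.refl _, h01, h02, h01.symm, Commute.refl _, h12, h02.symm, h12.symm, Commute.refl _]

theorem Setting.qs_shift (S : Setting ρ b q) (i : Fin 3) : b * qs b q i * b⁻¹ = qs b q (i + 1) := by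
  fin_cases i
  · show b * qs b q 0 * b⁻¹ = qs b q 1
    rw [qs_zero, qs_one]
  · show b * qs b q 1 * b⁻¹ = qs b q 2
    rw [qs_one, qs_two]; group
  · show b * qs b q 2 * b⁻¹ = qs b q 0
    rw [qs_zero, qs_two, show b * (b * b * q * (b * b)⁻¹) * b⁻¹ = (b * b * b) * q * (b * b * b)⁻¹ by group,
      show b * b * b = b ^ 3 by rw [pow_succ, pow_two], S.ord]
    group

/-- The action of the three involutions. -/
def tq (ρ : Representation (ZMod 3) G E) (b q : G) (i : Fin 3) : Module.End (ZMod 3) E := ρ (qs b q i)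

theorem Setting.tq_sq (S : Setting ρ b q) (i : Fin 3) (v : E) : tq ρ b q i (tq ρ b q i v) = v := by
  rw [tq, rho_comp, S.qs_sq, map_one]; rfl

theorem Setting.tq_comm (S : Setting ρ b q) (i j : Fin 3) (v : E) :
    tq ρ b q i (tq ρ b q j v) = tq ρ b q j (tq ρ b q i v) := by
  rw [tq, tq, rho_comp, rho_comp, (S.qs_comm i j).eq]

theorem Setting.span_top (S : Setting ρ b q) :
    Submodule.span (ZMod 3) {v : E | ∃ χ, v ∈ comp (tq ρ b q) χ} = ⊤ := span_eigen _ S.tq_sq S.tq_comm

theorem Setting.b_map (S : Setting ρ b q) {χ : Fin 3 → Bool} {v : E} (hv : v ∈ comp (tq ρ b q) χ) :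
    ρ b v ∈ comp (tq ρ b q) (fun i => χ (i - 1)) := by
  have := map_comp (t := tq ρ b q) (ρ b) (Equiv.addRight (1 : Fin 3)) (fun i u => ?_) hv
  · convert this using 2
    funext i
    show χ (i - 1) = χ ((Equiv.addRight (1 : Fin 3)).symm i)
    simp [sub_eq_add_neg]
  · show ρ b (ρ (qs b q i) u) = ρ (qs b q (i + 1)) (ρ b u)
    rw [rho_comp, rho_comp, ← S.qs_shift, inv_mul_cancel_right]

/-- The trivial pattern. -/
def chiC : Fin 3 → Bool := fun _ => false
/-- The three nontrivial patterns. -/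
def chiW (i : Fin 3) : Fin 3 → Bool := fun j => decide (j ≠ i)

theorem chiW_shift : ∀ i : Fin 3, (fun j => chiW i (j - 1)) = chiW (i + 1) := by decide
theorem chiW_ne : ∀ i : Fin 3, chiW i ≠ chiC := by decide
theorem chiW_inj : ∀ i j : Fin 3, chiW i = chiW j → i = j := by decide

theorem Setting.pattern (S : Setting ρ b q) {χ : Fin 3 → Bool} {v : E} (hv : v ∈ comp (tq ρ b q) χ) (hv0 : v ≠ 0) :
    χ = chiC ∨ ∃ i, χ = chiW i := by
  have hx : χ 2 = xor (χ 0) (χ 1) := by
    have h := hv 2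
    have h' : tq ρ b q 2 v = sgn (xor (χ 0) (χ 1)) • v := by
      rw [tq, ← S.qs_prod, ← rho_comp]
      show tq ρ b q 0 (tq ρ b q 1 v) = _
      rw [hv 1, map_smul, hv 0, smul_smul, mul_comm, sgn_xor]
    exact sgn_inj _ _ (smul_left_injective _ hv0 (h.symm.trans h'))
  revert hx
  clear hv
  revert χ
  decide

theorem Setting.exists_line (S : Setting ρ b q) : ∀ i : Fin 3, comp (tq ρ b q) (chiW i) ≠ ⊥ := by
  intro i hi
  apply S.ne
  have hall : ∀ j, comp (tq ρ b q) (chiW j) = ⊥ := by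
    have step : ∀ j, comp (tq ρ b q) (chiW (j + 1)) = ⊥ → comp (tq ρ b q) (chiW j) = ⊥ := by
      intro j hj
      rw [eq_bot_iff]
      intro v hv
      have := S.b_map hv
      rw [chiW_shift, hj, Submodule.mem_bot] at this
      rw [Submodule.mem_bot]
      exact rho_injective ρ b (by rw [this, map_zero])
    intro j
    have h2 := step _ (show comp (tq ρ b q) (chiW (i - 1 + 1)) = ⊥ by rw [sub_add_cancel]; exact hi)
    have h3 := step _ (show comp (tq ρ b q) (chiW (i - 2 + 1)) = ⊥ by rwa [fin3_shift])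
    rcases fin3_cases i j with rfl | rfl | rfl
    · exact hi
    · exact h2
    · exact h3
  have htriv : ∀ j, tq ρ b q j = 1 := by
    intro j
    refine LinearMap.ext_on S.span_top ?_
    rintro v ⟨χ, hv⟩
    by_cases hv0 : v = 0
    · rw [hv0, map_zero, map_zero]
    rcases S.pattern hv hv0 with rfl | ⟨k, rfl⟩
    · rw [hv j, chiC]; simp [sgn]
    · rw [hall k] at hv
      exact absurd ((Submodule.mem_bot _).1 hv) hv0
  apply S.faith
  have h0 := htriv 0
  have h1 := htriv 1
  rw [tq, qs_zero] at h0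
  rw [tq, qs_one] at h1
  rw [h0, h1]

variable [Finite E]

theorem Setting.line_card (S : Setting ρ b q) (i : Fin 3) : Nat.card (comp (tq ρ b q) (chiW i)) ≤ 3 :=
  card_comp_le _ (ρ b) (rho_injective ρ b) S.rank (χ₁ := chiW (i + 1)) (χ₂ := chiW (i + 1 + 1))
    (fun h => by have := chiW_inj _ _ h; revert this; revert i; decide)
    (fun h => by have := chiW_inj _ _ h; revert this; revert i; decide)
    (fun h => by have := chiW_inj _ _ h; revert this; revert i; decide)
    (fun v hv => by have := S.b_map hv; rwa [chiW_shift] at this)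
    (fun v hv => by have := S.b_map hv; rwa [chiW_shift] at this)

theorem Setting.fix_C (S : Setting ρ b q) {v : E} (hv : v ∈ comp (tq ρ b q) chiC) : ρ b v = v :=
  range_eq (tq ρ b q) (ρ b) (rho_injective ρ b) S.rank (χ₀ := chiW 0) (χ₁ := chiW 1) (χ₂ := chiW 2)
    (by decide) (by decide) (by decide)
    (fun v hv => by have := S.b_map hv; rwa [chiW_shift] at this)
    (fun v hv => by have := S.b_map hv; rwa [chiW_shift] at this)
    (S.exists_line 0) (chiW_ne 0).symm (chiW_ne 1).symm (chiW_ne 2).symm hv (ψ' := chiC)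
    (by have := S.b_map hv; exact this) (chiW_ne 0).symm (chiW_ne 2).symm

theorem line_eq {U : Submodule (ZMod 3) E} (h3 : Nat.card U ≤ 3) {e v : E} (he : e ∈ U) (he0 : e ≠ 0) (hv : v ∈ U) :
    ∃ c : ZMod 3, v = c • e := by
  let f : ZMod 3 → U := fun c => ⟨c • e, U.smul_mem c he⟩
  have hf : Function.Injective f := fun a b h => smul_left_injective _ he0 (congrArg Subtype.val h)
  have hb : Function.Bijective f := by
    refine (Nat.bijective_iff_injective_and_card f).2 ⟨hf, ?_⟩
    rw [Nat.card_zmod]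
    have := Nat.card_le_card_of_injective f hf
    rw [Nat.card_zmod] at this
    omega
  obtain ⟨c, hc⟩ := hb.2 ⟨v, hv⟩
  exact ⟨c, (congrArg Subtype.val hc).symm⟩

theorem fix_line {U : Submodule (ZMod 3) E} (h3 : Nat.card U ≤ 3) {y : G} {m : ℕ} (hy : y ^ m = 1) (hm : m.Coprime 2)
    (hU : ∀ v ∈ U, ρ y v ∈ U) {v : E} (hv : v ∈ U) : ρ y v = v := by
  by_cases hv0 : v = 0
  · rw [hv0, map_zero]
  obtain ⟨c, hc⟩ := line_eq h3 hv hv0 (hU v hv)
  rcases zmod_three c with rfl | ⟨s, rfl⟩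
  · rw [zero_smul] at hc
    exact absurd (rho_injective ρ y (hc.trans (map_zero _).symm)) hv0
  cases s
  · rwa [sgn, if_neg Bool.false_ne_true, one_smul] at hc
  · exfalso
    rw [sgn, if_pos rfl, neg_smul, one_smul] at hc
    have hk : ∀ k : ℕ, ρ (y ^ k) v = (-1 : ZMod 3) ^ k • v := by
      intro k
      induction k with
      | zero => rw [pow_zero, map_one, pow_zero, one_smul]; rfl
      | succ k ih =>
        rw [pow_succ', ← rho_comp, ih, map_smul, hc, smul_neg, pow_succ, mul_neg_one, neg_smul]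
    have := hk m
    rw [hy, map_one, (Nat.coprime_two_right.1 hm).neg_one_pow, neg_smul, one_smul] at this
    have h2 : (2 : ZMod 3) • v = 0 := by
      rw [two_smul]
      nth_rewrite 1 [show v = -v from this]
      exact neg_add_cancel v
    exact hv0 (by rw [← one_smul (ZMod 3) v, ← half_two, ← smul_smul, h2, smul_zero])

theorem Setting.commute_b (S : Setting ρ b q) {y : G} {m : ℕ} (hy : y ^ m = 1) (hm : m.Coprime 6)
    (hc : ∀ i, Commute y (qs b q i)) : Commute y b := by
  have hpres : ∀ χ : Fin 3 → Bool, ∀ v ∈ comp (tq ρ b q) χ, ρ y v ∈ comp (tq ρ b q) χ := by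
    intro χ v hv i
    show ρ (qs b q i) (ρ y v) = _
    rw [rho_comp, ← (hc i).eq, ← rho_comp]
    show ρ y (tq ρ b q i v) = _
    rw [hv i, map_smul]
  have hW : ∀ i, ∀ v ∈ comp (tq ρ b q) (chiW i), ρ y v = v := fun i v hv =>
    fix_line (S.line_card i) hy (hm.coprime_dvd_right (by norm_num)) (hpres _) hv
  apply S.faith
  refine LinearMap.ext_on S.span_top ?_
  rintro v ⟨χ, hv⟩
  by_cases hv0 : v = 0
  · rw [hv0, map_zero, map_zero]
  rw [map_mul, map_mul]
  show ρ y (ρ b v) = ρ b (ρ y v)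
  rcases S.pattern hv hv0 with rfl | ⟨i, rfl⟩
  · rw [S.fix_C hv, S.fix_C (hpres _ v hv)]
  · rw [hW i v hv]
    have := S.b_map hv
    rw [chiW_shift] at this
    exact hW _ _ this

theorem Setting.eq_one_of_inverted (S : Setting ρ b q) {y : G} {m : ℕ} (hy : y ^ m = 1) (hm : m.Coprime 6)
    {i j : Fin 3} (hij : i ≠ j) (hfix : Commute y (qs b q i)) (hinv : qs b q j * y * qs b q j = y⁻¹) : y = 1 := by
  classical
  obtain ⟨z, hz⟩ : ∃ z, z = qs b q j * y * qs b q j * y⁻¹ := ⟨_, rfl⟩
  have hzy : z = (y * y)⁻¹ := by rw [hz, hinv, mul_inv_rev]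
  let P : Bool → Submodule (ZMod 3) E := fun s => comp (fun _ : Unit => tq ρ b q i) (fun _ => s)
  have hyP : ∀ s, ∀ v ∈ P s, ρ y v ∈ P s := by
    intro s v hv _
    show ρ (qs b q i) (ρ y v) = _
    rw [rho_comp, ← hfix.eq, ← rho_comp, show ρ (qs b q i) v = sgn s • v from hv (), map_smul]
  have hyinvP : ∀ s, ∀ v ∈ P s, ρ y⁻¹ v ∈ P s := by
    intro s v hv _
    show ρ (qs b q i) (ρ y⁻¹ v) = _
    rw [rho_comp, ← (hfix.inv_left).eq, ← rho_comp, show ρ (qs b q i) v = sgn s • v from hv (), map_smul]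
  have hjP : ∀ s, ∀ v ∈ P s, ρ (qs b q j) v ∈ P s := by
    intro s v hv _
    show ρ (qs b q i) (ρ (qs b q j) v) = _
    rw [rho_comp, ← (S.qs_comm j i).eq, ← rho_comp, show ρ (qs b q i) v = sgn s • v from hv (), map_smul]
  obtain ⟨ℓ, hℓdef⟩ : ∃ ℓ, ℓ = comp (tq ρ b q) (chiW i) := ⟨_, rfl⟩
  have hℓP : ∀ v ∈ ℓ, v ∈ P false := by
    intro v hv _
    rw [hℓdef] at hv
    show tq ρ b q i v = _
    rw [hv i]
    simp [chiW]
  have hrefl : ∀ v ∈ P false, ρ (qs b q j) v - v ∈ ℓ := by
    intro v hv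
    have hvi : ρ (qs b q i) v = v := by
      have := hv ()
      rw [sgn, if_neg Bool.false_ne_true, one_smul] at this
      exact this
    obtain ⟨u, hu⟩ : ∃ u, u = ρ (qs b q j) v - v := ⟨_, rfl⟩
    have hi' : tq ρ b q i u = u := by
      show ρ (qs b q i) u = u
      rw [hu, map_sub, rho_comp, ← (S.qs_comm j i).eq, ← rho_comp, hvi]
    have hj' : tq ρ b q j u = -u := by
      show ρ (qs b q j) u = -u
      rw [hu, map_sub, rho_comp, S.qs_sq, map_one, neg_sub]; rfl
    obtain ⟨k, hki, hkj⟩ := fin3_third i j hij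
    have hk' : tq ρ b q k u = -u := by
      have h2 : qs b q k = qs b q i * qs b q j := by
        have p2 := S.qs_prod
        have e0 : qs b q 1 * qs b q 2 = qs b q 0 := by
          rw [← p2, ← mul_assoc, (S.qs_comm 1 0).eq, mul_assoc, S.qs_sq, mul_one]
        have e1 : qs b q 0 * qs b q 2 = qs b q 1 := by rw [← p2, ← mul_assoc, S.qs_sq, one_mul]
        fin_cases i <;> fin_cases j <;> fin_cases k <;>
          first | exact absurd rfl hij | exact absurd rfl hki | exact absurd rfl hkj | exact p2.symm |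
            exact e0.symm | exact e1.symm | exact ((S.qs_comm _ _).eq.trans p2).symm |
            exact ((S.qs_comm _ _).eq.trans e0).symm | exact ((S.qs_comm _ _).eq.trans e1).symm
      show ρ (qs b q k) u = -u
      rw [h2, ← rho_comp]
      show tq ρ b q i (tq ρ b q j u) = -u
      rw [hj', map_neg, hi']
    rw [← hu, hℓdef]
    intro x
    rcases fin3_all i j k x hij hki hkj with rfl | rfl | rfl
    · simpa [chiW, sgn] using hi'
    · simpa [chiW, sgn, hij.symm] using hj'
    · simpa [chiW, sgn, hki] using hk'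
  obtain ⟨U, hUdef⟩ : ∃ U, U = ℓ ⊔ ℓ.map (ρ y) := ⟨_, rfl⟩
  have hUP : ∀ u ∈ U, u ∈ P false := by
    intro u hu
    rw [hUdef] at hu
    have : ℓ ⊔ ℓ.map (ρ y) ≤ P false := sup_le hℓP (by
      rintro _ ⟨w, hw, rfl⟩; exact hyP _ _ (hℓP w hw))
    exact this hu
  have hzP : ∀ v ∈ P false, ρ z v - v ∈ U := by
    intro v hv
    have h1 : ρ z v = ρ (qs b q j) (ρ y (ρ (qs b q j) (ρ y⁻¹ v))) := by
      rw [hz, rho_comp, rho_comp, rho_comp]
    obtain ⟨w, hw⟩ : ∃ w, w = ρ y⁻¹ v := ⟨_, rfl⟩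
    have hwP : w ∈ P false := hw ▸ hyinvP _ v hv
    have hv' : v = ρ y w := by rw [hw, rho_comp, mul_inv_cancel, map_one]; rfl
    rw [h1, ← hw, hv', show ρ (qs b q j) (ρ y (ρ (qs b q j) w)) - ρ y w =
      (ρ (qs b q j) (ρ y (ρ (qs b q j) w)) - ρ y (ρ (qs b q j) w)) + ρ y (ρ (qs b q j) w - w) by
      rw [map_sub]; abel, hUdef]
    exact Submodule.add_mem_sup (hrefl _ (hyP _ _ (hjP _ _ hwP))) (Submodule.mem_map_of_mem (hrefl w hwP))
  have hzm : z ^ m = 1 := by rw [hzy, inv_pow, (Commute.refl y).mul_pow, hy, one_mul, inv_one]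
  have hsmall : ∀ (U : Submodule (ZMod 3) E), Nat.card U ≤ 9 → ∀ g : G, g ^ m = 1 → (∀ u ∈ U, ρ g u ∈ U) →
      (∀ u ∈ U, ρ g⁻¹ u ∈ U) → ∀ u ∈ U, ρ g u = u := by
    intro U hU g hg h1 h2 u hu
    let e : U ≃ₗ[ZMod 3] U :=
      { toFun := fun u => ⟨ρ g u, h1 u u.2⟩
        invFun := fun u => ⟨ρ g⁻¹ u, h2 u u.2⟩
        left_inv := fun u => Subtype.ext (rho_inv_apply ρ g u)
        right_inv := fun u => Subtype.ext (by
          show ρ g (ρ g⁻¹ u) = u
          rw [rho_comp, mul_inv_cancel, map_one]; rfl)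
        map_add' := fun u w => Subtype.ext (map_add _ _ _)
        map_smul' := fun c u => Subtype.ext (map_smul _ _ _) }
    have hpow : ∀ (k : ℕ) (u : U), (((e ^ k) u : U) : E) = ρ (g ^ k) u := by
      intro k
      induction k with
      | zero => intro u; rw [pow_zero, pow_zero, map_one]; rfl
      | succ k ih =>
        intro u
        rw [pow_succ', LinearEquiv.mul_apply, pow_succ', ← rho_comp, ← ih]
        rfl
    have he := eq_one_of_small hU e (m := m) (LinearEquiv.ext fun u => Subtype.ext (by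
      rw [hpow, hg, map_one]; rfl)) hm
    exact congrArg Subtype.val (LinearEquiv.congr_fun he ⟨u, hu⟩)
  have hUcard : Nat.card U ≤ 9 := by
    let f : ℓ × ℓ → U := fun p => ⟨(p.1 : E) + ρ y (p.2 : E), hUdef ▸ Submodule.add_mem_sup p.1.2 (Submodule.mem_map_of_mem p.2.2)⟩
    have hf : Function.Surjective f := by
      rintro ⟨u, hu⟩
      rw [hUdef] at hu
      obtain ⟨a, ha, _, ⟨c, hc, rfl⟩, he⟩ := Submodule.mem_sup.1 hu
      exact ⟨(⟨a, ha⟩, ⟨c, hc⟩), Subtype.ext he⟩
    refine (Nat.card_le_card_of_surjective f hf).trans ?_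
    rw [Nat.card_prod, hℓdef]
    have := S.line_card i
    nlinarith
  have hzinvU : ∀ u ∈ U, ρ z⁻¹ u ∈ U := by
    have hmap : ∀ u ∈ U, ρ z u ∈ U := fun u hu => by
      have := U.add_mem (hzP u (hUP u hu)) hu
      rwa [sub_add_cancel] at this
    have hk : ∀ k : ℕ, ∀ u ∈ U, ρ (z ^ k) u ∈ U := by
      intro k
      induction k with
      | zero => intro u hu; rw [pow_zero, map_one]; exact hu
      | succ k ih => intro u hu; rw [pow_succ', ← rho_comp]; exact hmap _ (ih u hu)
    have hm0 : 0 < m := Nat.pos_of_ne_zero fun h => by subst h; simp at hm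
    rw [show z⁻¹ = z ^ (m - 1) from inv_eq_of_mul_eq_one_right (by rw [← pow_succ', Nat.sub_add_cancel hm0, hzm])]
    exact hk _
  have hzU := hsmall U hUcard z hzm (fun u hu => by
    have := U.add_mem (hzP u (hUP u hu)) hu
    rwa [sub_add_cancel] at this) hzinvU
  have hMcard : Nat.card (P true) ≤ 9 := by
    obtain ⟨k, l, hkl, hall⟩ := fin3_pair i
    obtain ⟨e, he, he0⟩ := Submodule.exists_mem_ne_zero_of_ne_bot (S.exists_line k)
    obtain ⟨e', he', he0'⟩ := Submodule.exists_mem_ne_zero_of_ne_bot (S.exists_line l)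
    have hle : P true ≤ Submodule.span (ZMod 3) {e, e'} := by
      intro v hv
      have hspan : v ∈ Submodule.span (ZMod 3) {v : E | ∃ χ, v ∈ comp (tq ρ b q) χ} := S.span_top ▸ Submodule.mem_top
      have hproj : (2 : ZMod 3) • (v - tq ρ b q i v) = v := by
        rw [show tq ρ b q i v = (-1 : ZMod 3) • v by simpa [sgn] using hv (), neg_smul, one_smul, sub_neg_eq_add,
          ← two_smul (ZMod 3) v, smul_smul, half_two, one_smul]
      have key : ∀ w ∈ Submodule.span (ZMod 3) {v : E | ∃ χ, v ∈ comp (tq ρ b q) χ},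
          (2 : ZMod 3) • (w - tq ρ b q i w) ∈ Submodule.span (ZMod 3) {e, e'} := by
        intro w hw
        induction hw using Submodule.span_induction with
        | mem w hw =>
          obtain ⟨χ, hw⟩ := hw
          by_cases hw0 : w = 0
          · simp [hw0]
          rw [hw i]
          rcases S.pattern hw hw0 with rfl | ⟨x, rfl⟩
          · simp [chiC, sgn]
          rcases hall x with rfl | rfl | rfl
          · simp [chiW, sgn]
          · obtain ⟨c, rfl⟩ := line_eq (S.line_card x) he he0 hw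
            exact Submodule.smul_mem _ _ (Submodule.sub_mem _ (Submodule.smul_mem _ _ (Submodule.subset_span (Set.mem_insert _ _)))
              (Submodule.smul_mem _ _ (Submodule.smul_mem _ _ (Submodule.subset_span (Set.mem_insert _ _)))))
          · obtain ⟨c, rfl⟩ := line_eq (S.line_card x) he' he0' hw
            exact Submodule.smul_mem _ _ (Submodule.sub_mem _ (Submodule.smul_mem _ _ (Submodule.subset_span (by simp)))
              (Submodule.smul_mem _ _ (Submodule.smul_mem _ _ (Submodule.subset_span (by simp)))))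
        | zero => simp
        | add u w _ _ hu hw =>
          rw [map_add, show u + w - (tq ρ b q i u + tq ρ b q i w) = (u - tq ρ b q i u) + (w - tq ρ b q i w) by abel,
            smul_add]
          exact Submodule.add_mem _ hu hw
        | smul c w _ hw =>
          rw [map_smul, ← smul_sub, smul_comm]
          exact Submodule.smul_mem _ _ hw
      rw [← hproj]
      exact key v hspan
    let f : ZMod 3 × ZMod 3 → Submodule.span (ZMod 3) {e, e'} := fun c =>
      ⟨c.1 • e + c.2 • e', Submodule.mem_span_pair.2 ⟨c.1, c.2, rfl⟩⟩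
    have hf : Function.Surjective f := by
      rintro ⟨u, hu⟩
      obtain ⟨a, c, rfl⟩ := Submodule.mem_span_pair.1 hu
      exact ⟨(a, c), rfl⟩
    have h1 := Nat.card_le_card_of_surjective f hf
    rw [Nat.card_prod, Nat.card_zmod] at h1
    refine le_trans ?_ h1
    exact Nat.card_le_card_of_injective (Submodule.inclusion hle) (Submodule.inclusion_injective hle)
  have hyM := hsmall (P true) hMcard y hy (hyP _) (hyinvP _)
  have hz3 : z ^ 3 = 1 := by
    apply S.faith
    rw [map_one]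
    have hzz : ∀ v ∈ P false, ρ (z ^ 3) v = v := by
      intro v hv
      obtain ⟨u, hu⟩ : ∃ u, u = ρ z v - v := ⟨_, rfl⟩
      have huU : u ∈ U := hu ▸ hzP v hv
      have h1 : ρ z v = v + u := by rw [hu, add_sub_cancel]
      rw [pow_succ', pow_two, ← rho_comp, ← rho_comp, h1, map_add, h1, hzU u huU, map_add, map_add, h1, hzU u huU,
        show v + u + u + u = v + (3 : ℕ) • u by rw [succ_nsmul, two_nsmul]; abel,
        show (3 : ℕ) • u = (0 : E) by rw [← Nat.cast_smul_eq_nsmul (ZMod 3), ZMod.natCast_self, zero_smul],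
        add_zero]
    refine LinearMap.ext_on S.span_top ?_
    rintro v ⟨χ, hv⟩
    show ρ (z ^ 3) v = v
    have hvP : v ∈ P (χ i) := fun _ => hv i
    cases hχ : χ i
    · rw [hχ] at hvP
      exact hzz v hvP
    · rw [hχ] at hvP
      have hk : ∀ k : ℕ, ρ (y ^ k) v = v := by
        intro k
        induction k with
        | zero => rw [pow_zero, map_one]; rfl
        | succ k ih => rw [pow_succ, ← rho_comp, hyM v hvP, ih]
      have hyinv : ρ y⁻¹ v = v := by
        nth_rewrite 1 [← hyM v hvP]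
        exact rho_inv_apply ρ y v
      rw [hzy, mul_inv_rev, ← pow_two, ← pow_mul]
      have hk' : ∀ k : ℕ, ρ (y⁻¹ ^ k) v = v := by
        intro k
        induction k with
        | zero => rw [pow_zero, map_one]; rfl
        | succ k ih => rw [pow_succ, ← rho_comp, hyinv, ih]
      exact hk' _
  have h6 : y ^ 6 = 1 := by
    rw [hzy, inv_pow, inv_eq_one, ← pow_two, ← pow_mul] at hz3
    exact hz3
  have := pow_gcd_eq_one.2 ⟨hy, h6⟩
  rwa [hm.gcd_eq_one, pow_one] at this

/-- An abelian subgroup of order prime to six normalised by the four-group commutes with the element of order three. -/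
theorem Setting.centralize_odd (S : Setting ρ b q) (A : Subgroup G) (hA : ∀ u ∈ A, ∀ w ∈ A, Commute u w)
    (hAq : ∀ i, ∀ u ∈ A, qs b q i * u * qs b q i ∈ A) (hcop : ∀ u ∈ A, (orderOf u).Coprime 6) :
    ∀ u ∈ A, Commute u b := by
  have hpow : ∀ u ∈ A, u ^ orderOf u = 1 := fun u _ => pow_orderOf_eq_one u
  have hsqi : ∀ i, (qs b q i)⁻¹ = qs b q i := fun i => inv_eq_of_mul_eq_one_right (S.qs_sq i)
  obtain ⟨σ, hσ⟩ : ∃ σ : Fin 3 → G → G, ∀ i u, σ i u = qs b q i * u * qs b q i := ⟨_, fun _ _ => rfl⟩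
  have hmem : ∀ i, ∀ u ∈ A, σ i u ∈ A := fun i u hu => hσ i u ▸ hAq i u hu
  have hinvol : ∀ i u, σ i (σ i u) = u := fun i u => by
    rw [hσ, hσ, show qs b q i * (qs b q i * u * qs b q i) * qs b q i = (qs b q i * qs b q i) * u * (qs b q i * qs b q i)
      by group, S.qs_sq, one_mul, mul_one]
  have hmul : ∀ i u w, σ i (u * w) = σ i u * σ i w := fun i u w => by
    rw [hσ, hσ, hσ, show qs b q i * u * qs b q i * (qs b q i * w * qs b q i) =
      qs b q i * u * (qs b q i * qs b q i) * w * qs b q i by group, S.qs_sq]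
    group
  have hinv : ∀ i u, σ i u⁻¹ = (σ i u)⁻¹ := fun i u => by
    rw [hσ, hσ, mul_inv_rev, mul_inv_rev, hsqi, mul_assoc]
  have hfixc : ∀ i u, σ i u = u → Commute u (qs b q i) := fun i u h => by
    rw [hσ] at h
    show u * qs b q i = qs b q i * u
    nth_rewrite 1 [← h]
    rw [mul_assoc, S.qs_sq, mul_one]
  have hswap : ∀ i j u, σ i (σ j u) = σ j (σ i u) := fun i j u => by
    rw [hσ, hσ, hσ, hσ, show qs b q i * (qs b q j * u * qs b q j) * qs b q i =
      (qs b q i * qs b q j) * u * (qs b q j * qs b q i) by group,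
      show qs b q j * (qs b q i * u * qs b q i) * qs b q j =
      (qs b q j * qs b q i) * u * (qs b q i * qs b q j) by group, (S.qs_comm i j).eq]
  have h2 : ∀ u, σ 2 u = σ 0 (σ 1 u) := fun u => by
    rw [hσ, hσ, hσ, ← S.qs_prod]
    nth_rewrite 2 [(S.qs_comm 0 1).eq]
    group
  have hzero : ∀ i j, i ≠ j → ∀ u ∈ A, σ i u = u → σ j u = u⁻¹ → u = 1 := fun i j hij u hu h1 h2 =>
    S.eq_one_of_inverted (hpow u hu) (hcop u hu) hij (hfixc i u h1) (by rw [← hσ]; exact h2)
  have hhalf : ∀ u ∈ A, Commute (u ^ 2) b → Commute u b := by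
    intro u hu h
    have h2' : (orderOf u).Coprime 2 := (hcop u hu).coprime_dvd_right (by norm_num)
    obtain ⟨k, hk⟩ := exists_pow_eq_self_of_coprime h2'.symm
    rw [← hk]
    exact h.pow_left k
  intro u hu
  apply hhalf u hu
  obtain ⟨p, hp⟩ : ∃ p, p = u * σ 0 u := ⟨_, rfl⟩
  obtain ⟨n, hn⟩ : ∃ n, n = u * (σ 0 u)⁻¹ := ⟨_, rfl⟩
  have hpA : p ∈ A := hp ▸ A.mul_mem hu (hmem 0 u hu)
  have hnA : n ∈ A := hn ▸ A.mul_mem hu (A.inv_mem (hmem 0 u hu))
  have hpn : u ^ 2 = p * n := by
    rw [hp, hn, pow_two, mul_assoc, ← mul_assoc (σ 0 u), (hA _ (hmem 0 u hu) _ hu).eq, mul_assoc u (σ 0 u),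
      mul_inv_cancel, mul_one]
  have hp0 : σ 0 p = p := by rw [hp, hmul, hinvol, (hA _ (hmem 0 u hu) _ hu).eq]
  have hn0 : σ 0 n = n⁻¹ := by rw [hn, hmul, hinv, hinvol, mul_inv_rev, inv_inv]
  have hn1 : n = 1 := by
    have hinvc : σ 1 n = n⁻¹ := by
      have hw : n * σ 1 n = 1 := by
        refine hzero 1 0 (by decide) _ (A.mul_mem hnA (hmem 1 n hnA)) ?_ ?_
        · rw [hmul, hinvol, (hA _ (hmem 1 n hnA) _ hnA).eq]
        · rw [hmul, hswap 0 1, hn0, hinv, mul_inv_rev, (hA _ (A.inv_mem hnA) _ (A.inv_mem (hmem 1 n hnA))).eq]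
      exact (inv_eq_of_mul_eq_one_right hw).symm
    refine hzero 2 0 (by decide) n hnA ?_ hn0
    rw [h2, hinvc, hinv, hn0, inv_inv]
  have hp1 : σ 1 p = p := by
    have hw : p * (σ 1 p)⁻¹ = 1 := by
      refine hzero 0 1 (by decide) _ (A.mul_mem hpA (A.inv_mem (hmem 1 p hpA))) ?_ ?_
      · rw [hmul, hinv, hswap 0 1, hp0]
      · rw [hmul, hinv, hinvol, mul_inv_rev, inv_inv]
    exact (mul_inv_eq_one.1 hw).symm
  rw [hpn, hn1, mul_one]
  refine S.commute_b (hpow p hpA) (hcop p hpA) fun i => hfixc i p ?_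
  fin_cases i
  · exact hp0
  · exact hp1
  · show σ 2 p = p
    rw [h2, hp1, hp0]

end Cfsg.Agent.CubicBlock
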